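import Mathlib

/-!
Automorphisms of order prime to `p` fixing a Sylow `p`-subgroup pointwise: reductions.
-/

set_option autoImplicit false

namespace Cfsg.Agent.Lib.FixSylow

/-- An automorphism of order prime to `p` fixing a Sylow `p`-subgroup pointwise is trivial. -/
def Rigid (p : ℕ) (G : Type*) [Group G] : Prop :=
  ∀ α : MulAut G, ¬ p ∣ orderOf α → ∀ U : Sylow p G, (∀ x ∈ (U : Subgroup G), α x = x) → α = 1

variable {p : ℕ} [Fact p.Prime] {G : Type*} [Group G] [Finite G]

/-- It is enough to know this for one `p`-subgroup. -/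
theorem rigid_of_pgroup (R : Subgroup G) (hR : IsPGroup p R)
    (h : ∀ α : MulAut G, ¬ p ∣ orderOf α → (∀ x ∈ R, α x = x) → α = 1) : Rigid p G := by
  intro α hα U hU
  obtain ⟨U0, hU0⟩ := hR.exists_le_sylow
  obtain ⟨c, hc⟩ := MulAction.exists_smul_eq G U U0
  have h1 : MulAut.conj c * α * (MulAut.conj c)⁻¹ = 1 := by
    refine h _ ?_ fun x hx => ?_
    · rw [← MulAut.conj_apply, MulEquiv.orderOf_eq]
      exact hα
    · have hx' : x ∈ ((c • U : Sylow p G) : Subgroup G) := hc ▸ hU0 hx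
      rw [Sylow.coe_subgroup_smul, Subgroup.mem_pointwise_smul_iff_inv_smul_mem] at hx'
      have e := hU _ hx'
      simp only [MulAut.smul_def, MulAut.conj_inv_apply] at e
      show MulAut.conj c (α ((MulAut.conj c)⁻¹ x)) = x
      rw [MulAut.conj_inv_apply, e, MulAut.conj_apply]
      group
  rwa [mul_inv_eq_one, mul_eq_left] at h1

theorem Rigid.of_equiv {H : Type*} [Group H] (h : Rigid p G) (e : H ≃* G) : Rigid p H := by
  intro α hα U hU
  have := Finite.of_equiv G e.symm.toEquiv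
  let α' : MulAut G := (MulAut.congr e) α
  have h1 : α' = 1 := by
    refine h α' ?_ (U.mapSurjective (f := e.toMonoidHom) e.surjective) ?_
    · rwa [show α' = (MulAut.congr e).toMonoidHom α from rfl,
        orderOf_injective (MulAut.congr e).toMonoidHom (MulEquiv.injective _)]
    · intro x hx
      obtain ⟨y, hy, rfl⟩ := hx
      show e (α (e.symm (e y))) = e y
      rw [e.symm_apply_apply, hU y hy]
  exact (MulAut.congr e).injective (h1.trans (map_one _).symm)

omit [Finite G] in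
/-- A `p`-element whose power by a number prime to `p` lies in a subgroup lies in it. -/
theorem mem_of_pow_mem {r : G} {k : ℕ} (hr : ∃ a : ℕ, r ^ p ^ a = 1) (hk : ¬ p ∣ k) {H : Subgroup G}
    (h : r ^ k ∈ H) : r ∈ H := by
  obtain ⟨a, ha⟩ := hr
  have hcop : k.Coprime (p ^ a) := ((Fact.out : p.Prime).coprime_iff_not_dvd.2 hk).symm.pow_right a
  have := zpow_mem h (k.gcdA (p ^ a))
  rw [← zpow_natCast, ← zpow_mul] at this
  have hb := Nat.gcd_eq_gcd_ab k (p ^ a)
  rw [hcop.gcd_eq_one] at hb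
  have e : r = r ^ ((k : ℤ) * k.gcdA (p ^ a)) := by
    conv_lhs => rw [← zpow_one r, show (1 : ℤ) = ((1 : ℕ) : ℤ) from rfl, hb]
    rw [zpow_add, zpow_mul _ ((p ^ a : ℕ) : ℤ), zpow_natCast, ha, one_zpow, mul_one]
  rwa [e]

omit [Fact p.Prime] [Finite G] in
theorem iterate_mul_fixed (α : MulAut G) {g d : G} (hd : α d = d) (hg : α g = g * d) :
    ∀ n : ℕ, (α ^ n) g = g * d ^ n
  | 0 => by simp
  | n + 1 => by
    rw [pow_succ', MulAut.mul_apply, iterate_mul_fixed α hd hg n, map_mul, map_pow, hg, hd, mul_assoc,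
      ← pow_succ']

omit [Finite G] in
/-- The normaliser of a subgroup `R ≤ U` with centraliser in `U` is fixed pointwise. -/
theorem eq_of_mem_normalizer {U : Subgroup G} (hU : IsPGroup p U) {R : Subgroup G} (hRU : R ≤ U)
    (hC : Subgroup.centralizer (R : Set G) ≤ U) (α : MulAut G) (hα : ¬ p ∣ orderOf α)
    (hfix : ∀ x ∈ U, α x = x) {g : G} (hg : g ∈ Subgroup.normalizer (R : Set G)) : α g = g := by
  set d := g⁻¹ * α g with hd
  have hdU : d ∈ U := by
    refine hC (Subgroup.mem_centralizer_iff.2 fun r hr => ?_)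
    have hr' : g * r * g⁻¹ ∈ R := (Subgroup.mem_normalizer_iff.1 hg r).1 hr
    have e := hfix _ (hRU hr')
    rw [map_mul, map_mul, map_inv, hfix r (hRU hr)] at e
    calc r * d = g⁻¹ * (g * r * g⁻¹) * α g := by rw [hd]; group
      _ = g⁻¹ * (α g * r * (α g)⁻¹) * α g := by rw [e]
      _ = d * r := by rw [hd]; group
  have hit := iterate_mul_fixed α (hfix d hdU) (g := g) (mul_inv_cancel_left g (α g)).symm (orderOf α)
  rw [pow_orderOf_eq_one, MulAut.one_apply, left_eq_mul] at hit
  obtain ⟨a, ha⟩ := hU ⟨d, hdU⟩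
  have hd1 : d ∈ (⊥ : Subgroup G) :=
    mem_of_pow_mem ⟨a, congrArg Subtype.val ha⟩ hα (Subgroup.mem_bot.2 hit)
  rw [Subgroup.mem_bot, hd, inv_mul_eq_one] at hd1
  exact hd1.symm

end Cfsg.Agent.Lib.FixSylow
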