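import Mathlib
import Cfsg.Agent.Lib.FixSylow.Basic
import Cfsg.Agent.Lib.BNPair.Parabolic

/-!
Rigidity in a split Tits system: an automorphism fixing `U` preserves `B`, each minimal parabolic and hence
each cell, and a cell is one orbit of `U` on the cosets of `B`.
-/

set_option autoImplicit false

namespace Cfsg.Agent.Lib.FixSylow

open Cfsg.Agent.Lib.BNPair

variable {G : Type*} [Group G] [Finite G]

theorem eq_one_of_bn {p : ℕ} [Fact p.Prime] (P : Cfsg.BNPair G) (hcore : P.B.normalCore = ⊥)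
    (U : Subgroup G) (hU : IsPGroup p U) (hUB : U ≤ P.B)
    (hsplit : ∀ b ∈ P.B, ∃ u ∈ U, ∃ t ∈ P.B ⊓ P.N, b = u * t)
    (hnorm : P.B ≤ Subgroup.normalizer (U : Set G))
    (hmove : ∀ s ∈ P.S, ∃ x ∈ U, s⁻¹ * x * s ∉ P.B)
    (hsep : ∀ s ∈ P.S, ∀ t ∈ P.S, s ≠ t → ∀ u ∈ U,
      ∃ x ∈ U, s⁻¹ * x * s ∈ P.B ∧ (u * t)⁻¹ * x * (u * t) ∉ P.B)
    (α : MulAut G) (hα : ¬ p ∣ orderOf α) (hfix : ∀ x ∈ U, α x = x) : α = 1 := by
  -- `B` is the normaliser of `U`
  have hBN : Subgroup.normalizer (U : Set G) = P.B := by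
    obtain ⟨J, hJ, e⟩ := exists_eq_parabolic P _ hnorm
    refine le_antisymm ?_ hnorm
    rcases J.eq_empty_or_nonempty with rfl | ⟨s, hs⟩
    · rw [e]; simp [Cfsg.BNPair.parabolic]
    · obtain ⟨x, hx, hx'⟩ := hmove s (hJ hs)
      have hsN : s⁻¹ ∈ Subgroup.normalizer (U : Set G) := inv_mem (by
        rw [e]; exact Subgroup.mem_sup_right (Subgroup.subset_closure hs))
      refine absurd (hUB ?_) hx'
      simpa using (Subgroup.mem_normalizer_iff.1 hsN x).1 hx
  have hfix' : ∀ x ∈ U, α⁻¹ x = x := fun x hx => by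
    conv_lhs => rw [← hfix x hx]
    exact α.symm_apply_apply x
  have hB1 : ∀ β : MulAut G, (∀ x ∈ U, β x = x) → ∀ b ∈ P.B, β b ∈ P.B := by
    intro β hβ b hb
    rw [← hBN, Subgroup.mem_normalizer_iff]
    have key : ∀ c ∈ P.B, ∀ x ∈ U, β c * x * (β c)⁻¹ ∈ U := by
      intro c hc x hx
      have hc' := (Subgroup.mem_normalizer_iff.1 (hnorm hc) x).1 hx
      have e := hβ _ hc'
      rw [map_mul, map_mul, map_inv, hβ x hx] at e
      rw [e]; exact hc'
    intro x
    refine ⟨key b hb x, fun hx => ?_⟩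
    have := key b⁻¹ (inv_mem hb) _ hx
    rw [map_inv] at this
    simpa [mul_assoc] using this
  have hB : ∀ b, α b ∈ P.B ↔ b ∈ P.B := fun b =>
    ⟨fun h => by
      have := hB1 α⁻¹ hfix' _ h
      rwa [show α⁻¹ (α b) = b from α.symm_apply_apply b] at this, hB1 α hfix b⟩
  -- each minimal parabolic is preserved
  have hs : ∀ s : P.S, α (s : G) ∈ dc P (s : G) := by
    intro s
    set M := (P.parabolic {(s : G)}).map α.toMonoidHom with hM
    have hBM : P.B ≤ M := fun b hb => ⟨α⁻¹ b, Subgroup.mem_sup_left ((hB _).1 (by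
      rwa [show α (α⁻¹ b) = b from α.apply_symm_apply b])), α.apply_symm_apply b⟩
    obtain ⟨J, hJ, eJ⟩ := exists_eq_parabolic P M hBM
    have hsM : α (s : G) ∈ M := ⟨s, Subgroup.mem_sup_right (Subgroup.subset_closure rfl), rfl⟩
    have hone : ∀ t ∈ J, P.parabolic {t} = M := by
      intro t ht
      refine le_antisymm (eJ ▸ (parabolic_le_iff P (Set.singleton_subset_iff.2 (hJ ht)) hJ).2
        (Set.singleton_subset_iff.2 ht)) ?_
      set M' := (P.parabolic {t}).map (α⁻¹ : MulAut G).toMonoidHom with hM'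
      have hBM' : P.B ≤ M' := fun b hb => ⟨α b, Subgroup.mem_sup_left ((hB _).2 hb), α.symm_apply_apply b⟩
      obtain ⟨I, hI, eI⟩ := exists_eq_parabolic P M' hBM'
      have hle : M' ≤ P.parabolic {(s : G)} := by
        rintro _ ⟨y, hy, rfl⟩
        have hyM : y ∈ M := eJ ▸ (parabolic_le_iff P (Set.singleton_subset_iff.2 (hJ ht)) hJ).2
          (Set.singleton_subset_iff.2 ht) hy
        obtain ⟨z, hz, rfl⟩ := hyM
        show α⁻¹ (α z) ∈ _
        rwa [show α⁻¹ (α z) = z from α.symm_apply_apply z]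
      have hIs : I ⊆ {(s : G)} := (parabolic_le_iff P hI (Set.singleton_subset_iff.2 s.2)).1 (eI ▸ hle)
      rcases Set.subset_singleton_iff_eq.1 hIs with rfl | rfl
      · exfalso
        have htM : α⁻¹ t ∈ M' := ⟨t, Subgroup.mem_sup_right (Subgroup.subset_closure rfl), rfl⟩
        rw [eI, Cfsg.BNPair.parabolic, Subgroup.closure_empty, sup_bot_eq] at htM
        refine gen_notMem P ⟨t, hJ ht⟩ ?_
        have := (hB _).2 htM
        rwa [show α (α⁻¹ t) = t from α.apply_symm_apply t] at this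
      · rintro _ ⟨z, hz, rfl⟩
        rw [← eI] at hz
        obtain ⟨y, hy, rfl⟩ := hz
        show α (α⁻¹ y) ∈ _
        rwa [show α (α⁻¹ y) = y from α.apply_symm_apply y]
    obtain ⟨t, ht⟩ : J.Nonempty := by
      rw [Set.nonempty_iff_ne_empty]
      rintro rfl
      rw [eJ, Cfsg.BNPair.parabolic, Subgroup.closure_empty, sup_bot_eq, hB] at hsM
      exact gen_notMem P s hsM
    rw [← hone t ht] at hsM
    obtain ⟨n, hn, hdc⟩ := (mem_parabolic_iff P (Set.singleton_subset_iff.2 (hJ ht)) _).1 hsM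
    have hn' : ∀ n ∈ Subgroup.closure ({t} : Set G), n ∈ P.B ∨ n ∈ dc P t := by
      intro n hn
      induction hn using Subgroup.closure_induction with
      | mem x hx => exact Or.inr ((Set.mem_singleton_iff.1 hx).symm ▸ mem_dc_self P t)
      | one => exact Or.inl (one_mem _)
      | mul a b _ _ ha hb =>
        rcases ha with ha | ha <;> rcases hb with hb | hb
        · exact Or.inl (mul_mem ha hb)
        · exact Or.inr (by simpa using mul_mem_dc P ha hb (one_mem _))
        · exact Or.inr (by simpa using mul_mem_dc P (one_mem _) ha hb)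
        · have h1 : a ∈ cell P (refl P ⟨t, hJ ht⟩) := (cell_refl P ⟨t, hJ ht⟩).symm ▸ ha
          have h2 : b ∈ cell P (refl P ⟨t, hJ ht⟩) := (cell_refl P ⟨t, hJ ht⟩).symm ▸ hb
          rcases mul_cell_mem P h1 h2 with h | h
          · rw [refl_sq, cell_one] at h
            exact Or.inl h
          · exact Or.inr ((cell_refl P ⟨t, hJ ht⟩) ▸ h)
      | inv a _ ha =>
        rcases ha with ha | ha
        · exact Or.inl (inv_mem ha)
        · have h1 : a ∈ cell P (refl P ⟨t, hJ ht⟩) := (cell_refl P ⟨t, hJ ht⟩).symm ▸ ha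
          have h2 := inv_mem_cell P h1
          rw [refl_inv, cell_refl] at h2
          exact Or.inr h2
    have hcell : α (s : G) ∈ dc P t := by
      rcases hn' n hn with h | h
      · exfalso
        obtain ⟨b, hb, c, hc, e⟩ := (mem_dc P).1 hdc
        exact gen_notMem P s ((hB _).1 (e ▸ mul_mem (mul_mem hb h) hc))
      · exact dc_eq_of_mem P h ▸ hdc
    by_contra hne
    have hst : (s : G) ≠ t := fun e => hne (e ▸ hcell)
    obtain ⟨b, hb, c, hc, e⟩ := (mem_dc P).1 hcell
    obtain ⟨u, hu, h, hh, rfl⟩ := hsplit b hb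
    obtain ⟨x, hx, hx1, hx2⟩ := hsep s s.2 t (hJ ht) hst u hu
    refine hx2 ?_
    have h1 := (hB _).2 hx1
    rw [map_mul, map_mul, map_inv, hfix x hx, e] at h1
    -- move `h` across `t`
    have hk : t⁻¹ * h * t ∈ P.B := by
      have := P.conj_mem t⁻¹ (inv_mem (P.subset (hJ ht))) h ⟨hh.1, hh.2⟩
      simpa using this
    have h2 := P.B.mul_mem (P.B.mul_mem (P.B.mul_mem hk hc) h1) (inv_mem (P.B.mul_mem hk hc))
    convert h2 using 1
    group
  -- each cell is preserved
  have hcells : ∀ k : ℕ, ∀ w : W P, len P w = k → ∀ x ∈ cell P w, α x ∈ cell P w := by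
    intro k
    induction k with
    | zero =>
      intro w hw x hx
      rw [eq_one_of_len_eq_zero P hw, cell_one] at hx ⊢
      exact (hB x).2 hx
    | succ k ih =>
      intro w hw x hx
      obtain ⟨L, hl, hL⟩ := exists_reduced P w
      rcases L with _ | ⟨s, L⟩
      · simp at hl; omega
      have hw' : w = refl P s * wprod P L := by rw [← hL, wprod_cons]
      set w' := wprod P L with hw'd
      have hk1 : len P w' ≤ k := by
        have h := len_le P L
        rw [← hw'd] at h
        rw [hw, List.length_cons] at hl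
        omega
      have hk2 : k ≤ len P w' := by
        have := len_refl_mul_le P s w'
        rw [← hw', hw] at this
        omega
      obtain ⟨n, hn⟩ := QuotientGroup.mk_surjective w'
      have hcw : cell P w = dc P ((s : G) * n) := by
        rw [hw', ← hn]; exact cell_toW P (gen P s * n)
      rw [hcw] at hx
      obtain ⟨b, hb, c, hc, rfl⟩ := (mem_dc P).1 hx
      have h1 : α (b * s) ∈ cell P (refl P s) := by
        rw [cell_refl, map_mul]
        simpa using mul_mem_dc P ((hB b).2 hb) (hs s) (one_mem _)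
      have h2 : α ((n : G) * c) ∈ cell P w' := ih w' (by omega) _ (by
        rw [← hn, cell_toW]
        exact (mem_dc P).2 ⟨1, one_mem _, c, hc, by rw [one_mul]⟩)
      have h3 := mul_cell_mem_of_le P k (s := s) (w := w') (by omega) (by rw [← hw', hw]; omega) h1 h2
      rw [← hw'] at h3
      convert h3 using 1
      rw [← map_mul]
      congr 1
      group
  -- every coset of `B` is fixed
  have hfixn : ∀ n : P.N, (n : G)⁻¹ * α n ∈ P.B := by
    intro n
    have h := hcells _ (toW P n) rfl n (by rw [cell_toW]; exact mem_dc_self P _)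
    rw [cell_toW] at h
    obtain ⟨b, hb, c, hc, e⟩ := (mem_dc P).1 h
    obtain ⟨u, hu, t, ht, rfl⟩ := hsplit b hb
    have hk : (n : G)⁻¹ * t * n ∈ P.B := by
      simpa using P.conj_mem (n : G)⁻¹ (inv_mem n.2) t ⟨ht.1, ht.2⟩
    set d := (n : G)⁻¹ * t * n * c with hd
    have hdB : d ∈ P.B := mul_mem hk hc
    have e' : α (n : G) = u * n * d := by rw [e, hd]; group
    have hit : ∀ j : ℕ, ∃ d' ∈ P.B, (α ^ j) (n : G) = u ^ j * n * d' := by
      intro j
      induction j with
      | zero => exact ⟨1, one_mem _, by simp⟩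
      | succ j ih =>
        obtain ⟨d', hd', e''⟩ := ih
        refine ⟨d * α d', mul_mem hdB ((hB d').2 hd'), ?_⟩
        rw [pow_succ', MulAut.mul_apply, e'', map_mul, map_mul, map_pow, hfix u hu, e', pow_succ]
        group
    obtain ⟨d', hd', e''⟩ := hit (orderOf α)
    rw [pow_orderOf_eq_one, MulAut.one_apply] at e''
    set H := P.B.map (MulAut.conj (n : G)).toMonoidHom
    have huk : u ^ orderOf α ∈ H := by
      refine ⟨d'⁻¹, inv_mem hd', ?_⟩
      show (n : G) * d'⁻¹ * (n : G)⁻¹ = u ^ orderOf α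
      rw [show u ^ orderOf α = (n : G) * d'⁻¹ * (n : G)⁻¹ by
        rw [eq_mul_inv_iff_mul_eq, eq_mul_inv_iff_mul_eq]; exact e''.symm]
    obtain ⟨a, ha⟩ := hU ⟨u, hu⟩
    obtain ⟨y, hy, ey⟩ := mem_of_pow_mem ⟨a, congrArg Subtype.val ha⟩ hα huk
    have : (n : G)⁻¹ * α n = y * d := by
      rw [e', ← show (n : G) * y * (n : G)⁻¹ = u from ey]
      group
    rw [this]
    exact mul_mem hy hdB
  have hall : ∀ g : G, g⁻¹ * α g ∈ P.B := by
    intro g
    obtain ⟨n, hn, h⟩ := bruhat P g
    obtain ⟨b, hb, c, hc, rfl⟩ := (mem_dc P).1 h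
    obtain ⟨u, hu, t, ht, rfl⟩ := hsplit b hb
    have hk : n⁻¹ * t * n ∈ P.B := by simpa using P.conj_mem n⁻¹ (inv_mem hn) t ⟨ht.1, ht.2⟩
    have e : u * t * n * c = u * n * (n⁻¹ * t * n * c) := by group
    have hdB : n⁻¹ * t * n * c ∈ P.B := mul_mem hk hc
    rw [e, map_mul, map_mul, hfix u hu]
    have := mul_mem (mul_mem (inv_mem hdB) (hfixn ⟨n, hn⟩)) ((hB _).2 hdB)
    convert this using 1
    group
  refine MulEquiv.ext fun x => ?_
  rw [MulAut.one_apply]
  have hd : x⁻¹ * α x ∈ P.B.normalCore := fun g => by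
    -- compare the cosets of `g⁻¹` and `x * g⁻¹`
    have h1 := hall (x * g⁻¹)
    have h2 := hall g⁻¹
    rw [map_mul] at h1
    have := mul_mem h1 (inv_mem h2)
    convert this using 1
    group
  rw [hcore, Subgroup.mem_bot, inv_mul_eq_one] at hd
  exact hd.symm

end Cfsg.Agent.Lib.FixSylow
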