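import Mathlib
import Cfsg.Agent.Lib.Chev.ParabolicFStar
import Cfsg.Agent.Lib.Chev.Levi
import Cfsg.Agent.Lib.FixSylow.Basic
import Cfsg.Agent.Lib.BNPair.Parabolic

/-!
The Chevalley groups: the normaliser of a radical is a parabolic subgroup, hence fixed, and the minimal
parabolic subgroups generate.
-/

set_option autoImplicit false

namespace Cfsg.Agent.Lib.FixSylow

open Cfsg.Agent.Lib

theorem rigid_chev {F : Type*} [Field F] [Fintype F] {p : ℕ} [Fact p.Prime] [CharP F p]
    {D : Cfsg.Lie.ChevalleyDatum} {C : Chev.Cert} (hh : Chev.Rooted D C)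
    (hconn : Chev.chkConn D C = true) (hr : 2 ≤ D.rank) : Rigid p ↥(D.group F) := by
  classical
  set U : Subgroup ↥(D.group F) := (D.posUnipotent F).subgroupOf (D.group F) with hUdef
  have hUp : IsPGroup p ↥(D.posUnipotent F) := by
    obtain ⟨k, -, hk⟩ := FiniteField.card F p
    exact IsPGroup.of_card (n := (k : ℕ) * (D.nroots / 2)) (by rw [hh.card_posUnipotent, hk, ← pow_mul])
  have hU : IsPGroup p ↥U :=
    hUp.of_equiv (Subgroup.subgroupOfEquivOfLe hh.toChecked.posUnipotent_le_group).symm
  refine rigid_of_pgroup U hU fun α hα hfix => ?_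
  have hkey : ∀ J : Finset ℕ, J ⊆ Finset.range D.rank → (∃ i < D.rank, i ∉ J) →
      ∀ g : ↥(D.group F), (g : GL D.Idx F) ∈ D.parabolicSubgroup F (J : Set ℕ) → α g = g := by
    intro J hJ hne g hg
    set R : Subgroup (GL D.Idx F) := Chev.rootGen D F (Chev.outSet D C J) with hR
    have hRU : R ≤ D.posUnipotent F := by
      rw [hh.toChecked.posUnipotent_eq]
      exact Chev.rootGen_mono fun r hr => hr.1
    have hRG : R ≤ D.group F := hRU.trans hh.toChecked.posUnipotent_le_group
    refine eq_of_mem_normalizer hU (R := R.subgroupOf (D.group F)) (fun x hx => hRU hx) ?_ α hα hfix ?_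
    · intro c hc
      have hcR : (c : GL D.Idx F) ∈ Subgroup.centralizer (R : Set (GL D.Idx F)) :=
        Subgroup.mem_centralizer_iff.2 fun y hy =>
          congrArg Subtype.val (Subgroup.mem_centralizer_iff.1 hc ⟨y, hRG hy⟩ hy)
      refine hh.centralizer_radical_le_posUnipotent hconn hJ hne ⟨?_, hcR⟩
      rw [SetLike.mem_coe, ← hh.normalizer_radical hJ]
      exact ⟨Subgroup.centralizer_le_normalizer _ hcR, c.2⟩
    · rw [← hh.normalizer_radical hJ] at hg
      refine Subgroup.mem_normalizer_iff.2 fun x => ?_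
      rw [Subgroup.mem_subgroupOf, Subgroup.mem_subgroupOf]
      simpa using Subgroup.mem_normalizer_iff.1 hg.1 (x : GL D.Idx F)
  let P := hh.bnPair F
  let K : Subgroup ↥(D.group F) := MonoidHom.eqLocus α.toMonoidHom (MonoidHom.id _)
  have hK : P.parabolic P.S ≤ K := by
    refine sup_le ?_ ((Subgroup.closure_le _).2 ?_)
    · intro b hb
      exact hkey ∅ (Finset.empty_subset _) ⟨0, by omega, Finset.notMem_empty _⟩ b
        (Subgroup.mem_sup_left (Subgroup.mem_subgroupOf.1 hb))
    · rintro s ⟨i, hi, e⟩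
      refine hkey {i} (by simpa using hi) ?_ s ?_
      · by_cases h0 : i = 0
        · exact ⟨1, by omega, by simp [h0]⟩
        · exact ⟨0, by omega, by simp [Ne.symm h0]⟩
      · have : (s : GL D.Idx F) = Chev.nS hh.toChecked F i :=
          Units.ext (by rw [e, Chev.coe_nS _ hi])
        rw [this]
        exact hh.nS_mem_parabolic (Finset.mem_singleton_self i) hi
  rw [BNPair.parabolic_S] at hK
  exact MulEquiv.ext fun x => hK (Subgroup.mem_top x)

end Cfsg.Agent.Lib.FixSylow
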