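import Mathlib
import Cfsg.Agent.Lib.FixSylow.Basic

/-!
Rigidity from two point sets with an opposition relation.

If `α` fixes a `p`-group `R` whose normaliser is the stabiliser of a point, it acts on the points, commuting
with `R`.  A point set on which `R` is transitive and which is preserved is then fixed pointwise, and so is
everything determined by it.
-/

set_option autoImplicit false

namespace Cfsg.Agent.Lib.FixSylow

/-- `g` normalises the image of `R`. -/
def NormImg {L G : Type*} [Group L] [Group G] (π : L →* G) (R : Subgroup L) (g : L) : Prop :=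
  ∀ r ∈ R, ∃ r' ∈ R, π (g * r * g⁻¹) = π r'

section

variable {L G X : Type*} [Group L] [Group G] [MulAction L X] {π : L →* G} {R : Subgroup L} {x0 : X}

theorem ker_trivial_act (hpre : ∀ x, ∃ g : L, g • x0 = x) (hN : ∀ g : L, g • x0 = x0 ↔ NormImg π R g)
    {z : L} (hz : π z = 1) (x : X) : z • x = x := by
  obtain ⟨g, rfl⟩ := hpre x
  have h1 : (g⁻¹ * z * g) • x0 = x0 := (hN _).2 fun r hr => ⟨r, hr, by
    simp only [map_mul, map_inv, hz, mul_one, inv_mul_cancel, one_mul, inv_one]⟩
  rw [mul_smul, mul_smul] at h1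
  exact inv_smul_eq_iff.1 h1

theorem smul_eq_of_map_eq (hpre : ∀ x, ∃ g : L, g • x0 = x) (hN : ∀ g : L, g • x0 = x0 ↔ NormImg π R g)
    {g h : L} (e : π g = π h) (x : X) : g • x = h • x := by
  have := ker_trivial_act hpre hN (z := h⁻¹ * g) (by rw [map_mul, map_inv, e, inv_mul_cancel]) x
  rwa [mul_smul, inv_smul_eq_iff] at this

theorem exists_equivariant (hπ : Function.Surjective π) (hpre : ∀ x, ∃ g : L, g • x0 = x)
    (hN : ∀ g : L, g • x0 = x0 ↔ NormImg π R g) (α : MulAut G) (hfix : ∀ r ∈ R, α (π r) = π r) :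
    ∃ τ : X → X, τ x0 = x0 ∧ (∀ (g g' : L), π g' = α (π g) → ∀ x, τ (g • x) = g' • τ x) ∧
      ∀ n : ℕ, ∀ g g' : L, π g' = (α ^ n) (π g) → τ^[n] (g • x0) = g' • x0 := by
  choose c hc using hpre
  choose l hl using hπ
  have hpre' : ∀ x, ∃ g : L, g • x0 = x := fun x => ⟨c x, hc x⟩
  let τ : X → X := fun x => l (α (π (c x))) • x0
  have key : ∀ g g' : L, π g' = α (π g) → τ (g • x0) = g' • x0 := by
    intro g g' e
    set a := c (g • x0) with ha
    set a' := l (α (π a)) with ha'
    show a' • x0 = g' • x0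
    have h0 : (a⁻¹ * g) • x0 = x0 := by rw [mul_smul, inv_smul_eq_iff, ha, hc]
    have h1 : (a'⁻¹ * g') • x0 = x0 := (hN _).2 fun r hr => by
      obtain ⟨r', hr', e'⟩ := (hN _).1 h0 r hr
      refine ⟨r', hr', ?_⟩
      rw [← hfix r' hr', ← e']
      simp only [map_mul, map_inv, ha', hl, e, hfix r hr]
    rw [mul_smul, inv_smul_eq_iff] at h1
    exact h1.symm
  have h0 : τ x0 = x0 := by
    have := key 1 1 (by simp)
    simpa using this
  have heq : ∀ (g g' : L), π g' = α (π g) → ∀ x, τ (g • x) = g' • τ x := by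
    intro g g' e x
    rw [← hc x, ← mul_smul, key (g * c x) (g' * l (α (π (c x)))) (by rw [map_mul, map_mul, map_mul, e, hl]),
      key (c x) (l (α (π (c x)))) (hl _), mul_smul]
  refine ⟨τ, h0, heq, fun n => ?_⟩
  induction n with
  | zero =>
    intro g g' e
    exact (smul_eq_of_map_eq hpre' hN (by simpa using e) x0).symm
  | succ n ih =>
    intro g g' e
    rw [Function.iterate_succ_apply', ih g (l ((α ^ n) (π g))) (hl _)]
    exact key _ _ (by rw [hl, e, pow_succ', MulAut.mul_apply])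

end

variable {L G X Y : Type*} [Group L] [Group G] [Finite G] [IsSimpleGroup G] [MulAction L X] [MulAction L Y]

/-- The criterion: `R` is transitive on the points opposite to `x0`, and a point is determined by the set
of these which are opposite to it. -/
theorem eq_one_of_opposite {p : ℕ} [Fact p.Prime] (π : L →* G) (hπ : Function.Surjective π)
    (x0 : X) (y0 : Y) (hX : ∀ x, ∃ g : L, g • x0 = x) (hY : ∀ y, ∃ g : L, g • y0 = y)
    (R R' : Subgroup L) (hR : IsPGroup p R)
    (hNX : ∀ g : L, g • x0 = x0 ↔ NormImg π R g) (hNY : ∀ g : L, g • y0 = y0 ↔ NormImg π R' g)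
    (rel : X → Y → Prop) (hrel : ∀ (g : L) x y, rel x y → rel (g • x) (g • y))
    (s0 : Y) (hS : ∀ y, rel x0 y ↔ ∃ r ∈ R, r • s0 = y)
    (hbig : ∀ y, Nat.card (MulAction.orbit R s0) ≤ Nat.card (MulAction.orbit R y) → rel x0 y)
    (hinj : ∀ x x', (∀ y, rel x0 y → (rel x y ↔ rel x' y)) → x = x') (hne : ∃ x : X, x ≠ x0)
    (α : MulAut G) (hα : ¬ p ∣ orderOf α) (hfix : ∀ r ∈ R, α (π r) = π r)
    (hfix' : ∀ r ∈ R', α (π r) = π r) : α = 1 := by
  obtain ⟨τX, hX0, hXe, hXn⟩ := exists_equivariant hπ hX hNX α hfix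
  obtain ⟨τY, -, hYe, hYn⟩ := exists_equivariant hπ hY hNY α hfix'
  set k := orderOf α with hk
  have hperX : ∀ x, τX^[k] x = x := by
    intro x
    obtain ⟨g, rfl⟩ := hX x
    exact hXn k g g (by rw [hk, pow_orderOf_eq_one, MulAut.one_apply])
  have hperY : ∀ y, τY^[k] y = y := by
    intro y
    obtain ⟨g, rfl⟩ := hY y
    exact hYn k g g (by rw [hk, pow_orderOf_eq_one, MulAut.one_apply])
  have hk0 : 0 < k := orderOf_pos α
  have hinjY : Function.Injective τY := fun a b e => by
    rw [← hperY a, ← hperY b, ← Nat.succ_pred_eq_of_pos hk0, Function.iterate_succ_apply,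
      Function.iterate_succ_apply, e]
  have hYr : ∀ r ∈ R, ∀ y, τY (r • y) = r • τY y := fun r hr => hYe r r (hfix r hr).symm
  have horb : Nat.card (MulAction.orbit R s0) ≤ Nat.card (MulAction.orbit R (τY s0)) := by
    refine le_of_eq (Nat.card_congr ((Equiv.Set.image τY _ hinjY).trans (Equiv.setCongr ?_)))
    ext y
    constructor
    · rintro ⟨z, ⟨r, rfl⟩, rfl⟩
      exact ⟨r, (hYr r r.2 s0).symm⟩
    · rintro ⟨r, rfl⟩
      exact ⟨r • s0, ⟨r, rfl⟩, hYr r r.2 s0⟩
  obtain ⟨r0, hr0, e0⟩ := (hS _).1 (hbig _ horb)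
  have hit : ∀ n : ℕ, τY^[n] s0 = r0 ^ n • s0 := by
    intro n
    induction n with
    | zero => simp
    | succ n ih => rw [Function.iterate_succ_apply', ih, hYr _ (pow_mem hr0 n), ← e0, smul_smul, pow_succ]
  have hs0 : τY s0 = s0 := by
    have hst : r0 ^ k ∈ MulAction.stabilizer L s0 := (hit k).symm.trans (hperY s0)
    obtain ⟨a, ha⟩ := hR ⟨r0, hr0⟩
    rw [← e0]
    exact mem_of_pow_mem ⟨a, congrArg Subtype.val ha⟩ hα hst
  have hfixS : ∀ y, rel x0 y → τY y = y := by
    intro y hy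
    obtain ⟨r, hr, rfl⟩ := (hS y).1 hy
    rw [hYr r hr, hs0]
  have hfwd : ∀ x y, rel x y → rel (τX x) (τY y) := by
    intro x y h
    obtain ⟨g, rfl⟩ := hX x
    have h1 : rel x0 (g⁻¹ • y) := by simpa using hrel g⁻¹ _ _ h
    obtain ⟨g', hg'⟩ := hπ (α (π g))
    have e1 : τY y = g' • (g⁻¹ • y) := by
      conv_lhs => rw [show y = g • (g⁻¹ • y) from (smul_inv_smul g y).symm]
      rw [hYe g g' hg', hfixS _ h1]
    rw [hXe g g' hg', hX0, e1]
    exact hrel g' _ _ h1
  have hfwdn : ∀ n : ℕ, ∀ x y, rel x y → rel (τX^[n] x) (τY^[n] y) := by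
    intro n
    induction n with
    | zero => exact fun _ _ h => h
    | succ n ih =>
      intro x y h
      rw [Function.iterate_succ_apply', Function.iterate_succ_apply']
      exact hfwd _ _ (ih x y h)
  have hid : ∀ x, τX x = x := by
    intro x
    refine hinj _ _ fun y hy => ⟨fun h => ?_, fun h => by simpa [hfixS y hy] using hfwd x y h⟩
    have h1 := hfwdn (k - 1) _ _ h
    rw [← Function.iterate_succ_apply, show (k - 1).succ = k by omega, hperX,
      Function.iterate_fixed (hfixS y hy)] at h1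
    exact h1
  let K : Subgroup L :=
    { carrier := {z | ∀ x : X, z • x = x}
      one_mem' := one_smul L
      mul_mem' := fun {a b} ha hb x => by rw [mul_smul, hb, ha]
      inv_mem' := fun {a} ha x => by rw [inv_smul_eq_iff, ha] }
  have hKn : K.Normal := ⟨fun z hz g x => by rw [mul_smul, mul_smul, hz, smul_inv_smul]⟩
  have hbot : K.map π = ⊥ := by
    refine (IsSimpleGroup.eq_bot_or_eq_top_of_normal _ (hKn.map π hπ)).resolve_right fun htop => ?_
    obtain ⟨x, hx⟩ := hne
    obtain ⟨g, rfl⟩ := hX x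
    obtain ⟨z, hz, e⟩ := (htop.symm ▸ Subgroup.mem_top (π g) : π g ∈ K.map π)
    exact hx ((smul_eq_of_map_eq hX hNX e x0).symm.trans (hz x0))
  refine MulEquiv.ext fun a => ?_
  obtain ⟨g, rfl⟩ := hπ a
  obtain ⟨g', hg'⟩ := hπ (α (π g))
  have hmem : g⁻¹ * g' ∈ K := fun x => by
    rw [mul_smul, inv_smul_eq_iff]
    calc g' • x = g' • τX x := by rw [hid]
      _ = τX (g • x) := (hXe g g' hg' x).symm
      _ = g • x := hid _
  have h1 : π (g⁻¹ * g') ∈ K.map π := Subgroup.mem_map_of_mem π hmem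
  rw [hbot, Subgroup.mem_bot, map_mul, map_inv, inv_mul_eq_one] at h1
  rw [← hg', ← h1, MulAut.one_apply]

end Cfsg.Agent.Lib.FixSylow
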