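import Mathlib
import Cfsg.Agent.Lib.FixSylow.Point

/-!
Lines through the vectors of an invariant set, as a point set for `eq_one_of_opposite`.
-/

set_option autoImplicit false

namespace Cfsg.Agent.Lib.FixSylow

variable {F : Type*} [Field F] {V : Type*} [AddCommGroup V] [Module F V] {L : Type*} [Group L]

/-- A linear action on `V` with an invariant set of vectors stable under non-zero scalars. -/
structure LineData (F V L : Type*) [Field F] [AddCommGroup V] [Module F V] [Group L] where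
  /-- the action -/
  act : L →* (V ≃ₗ[F] V)
  /-- the vectors -/
  P : V → Prop
  act_P : ∀ g v, P v → P (act g v)

/-- The lines through the vectors of `D.P`. -/
def LineData.Pts (D : LineData F V L) : Type _ :=
  {W : Submodule F V // ∃ v, v ≠ 0 ∧ D.P v ∧ W = F ∙ v}

namespace LineData

variable (D : LineData F V L)

instance : MulAction L D.Pts where
  smul g W := ⟨W.1.map (D.act g : V →ₗ[F] V), by
    obtain ⟨v, hv, hP, e⟩ := W.2
    refine ⟨D.act g v, (D.act g).map_ne_zero_iff.2 hv, D.act_P g v hP, ?_⟩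
    rw [e, Submodule.map_span, Set.image_singleton]
    rfl⟩
  one_smul W := Subtype.ext (by
    show W.1.map (D.act 1 : V →ₗ[F] V) = W.1
    rw [map_one]
    exact Submodule.map_id W.1)
  mul_smul g h W := Subtype.ext (by
    show W.1.map (D.act (g * h) : V →ₗ[F] V) = (W.1.map (D.act h : V →ₗ[F] V)).map (D.act g : V →ₗ[F] V)
    rw [map_mul, ← Submodule.map_comp]
    rfl)

/-- The line through `v`. -/
def ln (v : V) (hv : v ≠ 0) (hP : D.P v) : D.Pts := ⟨F ∙ v, v, hv, hP, rfl⟩

theorem exists_ln (W : D.Pts) : ∃ v hv hP, W = D.ln v hv hP := by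
  obtain ⟨v, hv, hP, e⟩ := W.2
  exact ⟨v, hv, hP, Subtype.ext e⟩

theorem ln_eq_iff {v w : V} {hv : v ≠ 0} {hP : D.P v} {hw : w ≠ 0} {hQ : D.P w} :
    D.ln v hv hP = D.ln w hw hQ ↔ ∃ c : F, w = c • v := by
  refine ⟨fun e => ?_, ?_⟩
  · have h1 : w ∈ F ∙ v := by
      have h0 := congrArg Subtype.val e
      exact (show F ∙ v = F ∙ w from h0) ▸ Submodule.mem_span_singleton_self w
    obtain ⟨c, hc⟩ := Submodule.mem_span_singleton.1 h1
    exact ⟨c, hc.symm⟩
  · rintro ⟨c, rfl⟩
    refine Subtype.ext (Submodule.span_singleton_smul_eq (IsUnit.mk0 c ?_) v).symm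
    rintro rfl
    exact hw (zero_smul F v)

theorem smul_ln (g : L) {v : V} {hv : v ≠ 0} {hP : D.P v} :
    g • D.ln v hv hP = D.ln (D.act g v) ((D.act g).map_ne_zero_iff.2 hv) (D.act_P g v hP) :=
  Subtype.ext (by
    show (F ∙ v).map (D.act g : V →ₗ[F] V) = F ∙ D.act g v
    rw [Submodule.map_span, Set.image_singleton]
    rfl)

theorem smul_ln_eq_iff (g : L) {v w : V} {hv : v ≠ 0} {hP : D.P v} {hw : w ≠ 0} {hQ : D.P w} :
    g • D.ln v hv hP = D.ln w hw hQ ↔ ∃ c : F, w = c • D.act g v := by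
  rw [smul_ln, ln_eq_iff]

/-- The line of a point does not matter for a predicate invariant under non-zero scalars. -/
theorem exists_iff {Φ : V → Prop} (hΦ : ∀ (c : F) v, c ≠ 0 → Φ v → Φ (c • v)) {v : V} {hv : v ≠ 0}
    {hP : D.P v} : (∃ w hw hQ, D.ln v hv hP = D.ln w hw hQ ∧ Φ w) ↔ Φ v := by
  refine ⟨?_, fun h => ⟨v, hv, hP, rfl, h⟩⟩
  rintro ⟨w, hw, hQ, e, h⟩
  obtain ⟨c, rfl⟩ := (D.ln_eq_iff).1 e.symm
  exact hΦ c w (fun hc => hv (by rw [hc, zero_smul])) h

end LineData

variable {G X : Type*} [Group G] [MulAction L X]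

/-- The stabiliser of the only fixed point of `R` is the normaliser of its image. -/
theorem normImg_iff [Finite G] (π : L →* G) (hker : π.ker ≤ Subgroup.center L) {R : Subgroup L} {x0 : X}
    (hX : ∀ x, ∃ g : L, g • x0 = x) (hfix : ∀ r ∈ R, r • x0 = x0)
    (hstab : ∀ g : L, g • x0 = x0 → ∀ r ∈ R, g * r * g⁻¹ ∈ R)
    (huniq : ∀ x : X, (∀ r ∈ R, r • x = x) → x = x0) (g : L) : g • x0 = x0 ↔ NormImg π R g := by
  refine ⟨fun h r hr => ⟨_, hstab g h r hr, rfl⟩, fun h => ?_⟩
  have hz : ∀ z ∈ π.ker, ∀ x : X, z • x = x := by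
    intro z hz x
    have hc := Subgroup.mem_center_iff.1 (hker hz)
    have h0 : z • x0 = x0 := huniq _ fun r hr => by rw [← mul_smul, hc r, mul_smul, hfix r hr]
    obtain ⟨k, rfl⟩ := hX x
    rw [← mul_smul, ← hc k, mul_smul, h0]
  refine huniq _ fun r' hr' => ?_
  have : Finite ↥(R.map π) := inferInstance
  let f : ↥(R.map π) → ↥(R.map π) := fun a => ⟨π g * a * (π g)⁻¹, by
    obtain ⟨r, hr, e⟩ := a.2
    obtain ⟨r'', hr'', e'⟩ := h r hr
    exact ⟨r'', hr'', by rw [← e', map_mul, map_mul, map_inv, e]⟩⟩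
  have hf : Function.Surjective f := Finite.surjective_of_injective fun a b e => by
    have := congrArg Subtype.val e
    exact Subtype.ext (by simpa [f] using this)
  obtain ⟨⟨_, r, hr, rfl⟩, e⟩ := hf ⟨π r', Subgroup.mem_map_of_mem π hr'⟩
  have e' : π g * π r * (π g)⁻¹ = π r' := congrArg Subtype.val e
  have hz' := hz ((g * r * g⁻¹)⁻¹ * r') (by
    rw [MonoidHom.mem_ker, map_mul, map_inv, map_mul, map_mul, map_inv, e', inv_mul_cancel]) (g • x0)
  rw [mul_smul, inv_smul_eq_iff] at hz'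
  rw [hz', mul_smul, mul_smul, inv_smul_smul, hfix r hr]

/-- A group acting faithfully and linearly by unipotent maps of index at most three is a `p`-group. -/
theorem isPGroup_of_cube_zero {p : ℕ} [hp : Fact p.Prime] [CharP F p] (ρ : L →* (V ≃ₗ[F] V))
    (hρ : Function.Injective ρ) (R : Subgroup L)
    (h : ∀ r ∈ R, ∀ v, ρ r (ρ r (ρ r v - v) - (ρ r v - v)) = ρ r (ρ r v - v) - (ρ r v - v)) :
    IsPGroup p R := by
  rintro ⟨r, hr⟩
  refine ⟨2, Subtype.ext ?_⟩
  show r ^ p ^ 2 = 1
  rcases subsingleton_or_nontrivial V with hV | hV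
  · exact hρ (LinearEquiv.ext fun v => Subsingleton.elim _ _)
  have : ExpChar (Module.End F V) p := by
    have : CharP (Module.End F V) p :=
      charP_of_injective_algebraMap (algebraMap F (Module.End F V)).injective p
    exact ExpChar.prime hp.out
  set A : Module.End F V := ((ρ r : V ≃ₗ[F] V) : V →ₗ[F] V) with hA
  have hD : (A - 1) ^ 3 = 0 := by
    ext v
    have e := h r hr v
    simp only [pow_succ, pow_zero, one_mul, Module.End.mul_apply, LinearMap.sub_apply,
      Module.End.one_apply, LinearMap.zero_apply, hA, LinearEquiv.coe_coe]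
    rw [e, sub_self]
  have hp2 : 3 ≤ p ^ 2 := by
    have := hp.out.two_le
    nlinarith
  have hAp : A ^ p ^ 2 = 1 := by
    have e := sub_pow_expChar_pow_of_commute (p := p) (n := 2) (Commute.one_right A)
    rw [one_pow, pow_eq_zero_of_le hp2 hD, eq_comm, sub_eq_zero] at e
    exact e
  refine hρ (LinearEquiv.toLinearMap_injective ?_)
  rw [map_one]
  have e : ∀ n : ℕ, (((ρ r) ^ n : V ≃ₗ[F] V) : V →ₗ[F] V) = A ^ n := by
    intro n
    induction n with
    | zero => rfl
    | succ n ih =>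
      rw [pow_succ, pow_succ, ← ih, hA]
      rfl
  rw [map_pow]
  exact (e _).trans hAp

/-- The criterion when the two point sets coincide. -/
theorem rigid_of_self [Finite G] [IsSimpleGroup G] {p : ℕ} [Fact p.Prime] (π : L →* G)
    (hπ : Function.Surjective π) (x0 : X) (hX : ∀ x, ∃ g : L, g • x0 = x) (R : Subgroup L)
    (hR : IsPGroup p R) (hN : ∀ g : L, g • x0 = x0 ↔ NormImg π R g)
    (rel : X → X → Prop) (hrel : ∀ (g : L) x y, rel x y → rel (g • x) (g • y))
    (s0 : X) (hS : ∀ y, rel x0 y ↔ ∃ r ∈ R, r • s0 = y)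
    (hbig : ∀ y, Nat.card (MulAction.orbit R s0) ≤ Nat.card (MulAction.orbit R y) → rel x0 y)
    (hinj : ∀ x x', (∀ y, rel x0 y → (rel x y ↔ rel x' y)) → x = x') (hne : ∃ x : X, x ≠ x0) :
    Rigid p G :=
  rigid_of_pgroup (R.map π) (hR.map π) fun α hα hfix =>
    eq_one_of_opposite π hπ x0 x0 hX hX R R hR hN hN rel hrel s0 hS hbig hinj hne α hα
      (fun _ hr => hfix _ (Subgroup.mem_map_of_mem π hr)) fun _ hr => hfix _ (Subgroup.mem_map_of_mem π hr)

/-- Comparing two orbits through parametrisations. -/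
theorem card_orbit_lt {R : Subgroup L} {s y : X} {Z Z' A : Type*} [Finite Z] [Finite R] (val : X → A)
    (hval : Function.Injective val) (f : Z → A) (hf : ∀ r ∈ R, ∃ z, val (r • y) = f z)
    (g : Z' → X) (hg : ∀ z, g z ∈ MulAction.orbit R s) (hgi : Function.Injective g)
    (hlt : Nat.card Z < Nat.card Z') :
    Nat.card (MulAction.orbit R y) < Nat.card (MulAction.orbit R s) := by
  have : Finite (MulAction.orbit R s) := (Set.finite_range _).to_subtype
  choose F' hF' using hf
  have h1 : Nat.card (MulAction.orbit R y) ≤ Nat.card Z := by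
    choose r hr using fun w : MulAction.orbit R y => w.2
    refine Nat.card_le_card_of_injective (fun w => F' (r w).1 (r w).2) fun a b e => ?_
    refine Subtype.ext (hval ?_)
    calc val a.1 = val ((r a).1 • y) := congrArg val (hr a).symm
      _ = val ((r b).1 • y) := by rw [hF' _ (r a).2, hF' _ (r b).2]; exact congrArg f e
      _ = val b.1 := congrArg val (hr b)
  have h2 : Nat.card Z' ≤ Nat.card (MulAction.orbit R s) :=
    Nat.card_le_card_of_injective (fun z => (⟨g z, hg z⟩ : MulAction.orbit R s))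
      fun a b e => hgi (congrArg Subtype.val e)
  omega

/-- Two non-zero forms with the same zeros on the affine hyperplane `ψ = 1` are proportional. -/
theorem proportional_of_zeros {φ φ' ψ : V →ₗ[F] F} {u0 : V} (hu0 : ψ u0 = 1)
    (h : ∀ u, ψ u = 1 → (φ u = 0 ↔ φ' u = 0)) (hφ : φ ≠ 0) : ∃ c : F, φ' = c • φ := by
  by_cases hlin : ∀ u, ψ u = 0 → φ u = 0
  · have hd : ∀ χ : V →ₗ[F] F, (∀ u, ψ u = 0 → χ u = 0) → χ = χ u0 • ψ := fun χ hχ =>
      LinearMap.ext fun v => by
        have := hχ (v - ψ v • u0) (by simp [hu0])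
        rw [map_sub, map_smul, sub_eq_zero] at this
        rw [this, LinearMap.smul_apply, smul_eq_mul, smul_eq_mul, mul_comm]
    have h1 := hd φ hlin
    have hne : φ u0 ≠ 0 := fun e => hφ (by rw [h1, e, zero_smul])
    have hnz : ∀ u, ψ u = 1 → φ' u ≠ 0 := fun u hu e => by
      have := (h u hu).2 e
      rw [h1, LinearMap.smul_apply, hu, smul_eq_mul, mul_one] at this
      exact hne this
    have h2 := hd φ' fun u hu => by
      by_contra hne'
      exact hnz (u0 - (φ' u0 / φ' u) • u) (by simp [hu0, hu]) (by simp [div_mul_cancel₀ _ hne'])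
    refine ⟨φ' u0 / φ u0, ?_⟩
    calc φ' = φ' u0 • ψ := h2
      _ = (φ' u0 / φ u0) • (φ u0 • ψ) := by rw [smul_smul, div_mul_cancel₀ _ hne]
      _ = (φ' u0 / φ u0) • φ := by rw [← h1]
  · push Not at hlin
    obtain ⟨w, hw1, hw2⟩ := hlin
    set u := (φ w)⁻¹ • w
    have e1 : ψ u = 0 := by simp [u, hw1]
    have e2 : φ u = 1 := by simp [u, inv_mul_cancel₀ hw2]
    set u1 := u0 - φ u0 • u
    have e3 : ψ u1 = 1 := by simp [u1, e1, hu0]
    have e4 : φ u1 = 0 := by simp [u1, e2]
    have e5 : φ' u1 = 0 := (h u1 e3).1 e4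
    refine ⟨φ' u, LinearMap.ext fun v => ?_⟩
    have := (h (u1 + (v - ψ v • u1 - φ v • u)) (by simp [e1, e3])).1 (by simp [e2, e4])
    simp only [map_add, map_sub, map_smul, e5, smul_eq_mul, mul_zero, sub_zero, zero_add, sub_eq_zero] at this
    rw [LinearMap.smul_apply, smul_eq_mul, this, mul_comm]

end Cfsg.Agent.Lib.FixSylow
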