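import Mathlib
import Cfsg.Agent.Lib.FixSylow.Lines

/-!
The projective special linear groups: points and hyperplanes.
-/

set_option autoImplicit false

namespace Cfsg.Agent.Lib.FixSylow.Linear

open Matrix

variable (F : Type*) [Field F] (n : ℕ)

/-- The action on the vectors. -/
noncomputable def lin : LineData F (Fin n → F) (SpecialLinearGroup (Fin n) F) where
  act := SpecialLinearGroup.toLin'
  P _ := True
  act_P _ _ _ := trivial

/-- The action on the linear forms. -/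
noncomputable def co : LineData F ((Fin n → F) →ₗ[F] F) (SpecialLinearGroup (Fin n) F) where
  act :=
    { toFun := fun g => LinearEquiv.dualMap ((SpecialLinearGroup.toLin' g)⁻¹)
      map_one' := by
        refine LinearEquiv.ext fun φ => LinearMap.ext fun v => ?_
        simp
      map_mul' := fun g h => by
        refine LinearEquiv.ext fun φ => LinearMap.ext fun v => ?_
        simp }
  P _ := True
  act_P _ _ _ := trivial

variable {F n}

theorem co_apply (g : SpecialLinearGroup (Fin n) F) (φ : (Fin n → F) →ₗ[F] F) (v : Fin n → F) :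
    (co F n).act g φ v = φ ((lin F n).act g⁻¹ v) := by
  show φ ((SpecialLinearGroup.toLin' g)⁻¹ v) = φ (SpecialLinearGroup.toLin' g⁻¹ v)
  rw [map_inv]

/-- The transvection `v ↦ v + f v • u`. -/
theorem exists_transvection (u : Fin n → F) (f : (Fin n → F) →ₗ[F] F) (hfu : f u = 0) :
    ∃ g : SpecialLinearGroup (Fin n) F, ∀ v, (lin F n).act g v = v + f v • u := by
  classical
  set w : Fin n → F := fun i => f (Pi.single i 1) with hw
  have hf : ∀ v, f v = w ⬝ᵥ v := by
    intro v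
    conv_lhs => rw [pi_eq_sum_univ' v]
    rw [map_sum, dotProduct]
    exact Finset.sum_congr rfl fun i _ => by rw [map_smul, smul_eq_mul, mul_comm]
  refine ⟨⟨1 + replicateCol Unit u * replicateRow Unit w, by
    rw [det_one_add_replicateCol_mul_replicateRow, ← hf, hfu, add_zero]⟩, fun v => ?_⟩
  show Matrix.toLin' (1 + replicateCol Unit u * replicateRow Unit w) v = _
  rw [Matrix.toLin'_apply, add_mulVec, one_mulVec, hf v]
  congr 1
  ext i
  simp only [mulVec, dotProduct, Matrix.mul_apply, replicateCol_apply, replicateRow_apply,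
    Finset.univ_unique, Finset.sum_singleton, Pi.smul_apply, smul_eq_mul]
  rw [Finset.sum_mul]
  exact Finset.sum_congr rfl fun j _ => by ring

theorem exists_form_one {v : Fin n → F} (hv : v ≠ 0) : ∃ f : (Fin n → F) →ₗ[F] F, f v = 1 := by
  obtain ⟨i, hi⟩ := Function.ne_iff.1 hv
  exact ⟨(v i)⁻¹ • LinearMap.proj i, by simp [inv_mul_cancel₀ hi]⟩

theorem exists_form_sep {v w : Fin n → F} (hw : w ∉ F ∙ v) :
    ∃ f : (Fin n → F) →ₗ[F] F, f v = 0 ∧ f w = 1 := by
  obtain ⟨f, hf, hf'⟩ := Submodule.exists_dual_map_eq_bot_of_notMem hw inferInstance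
  refine ⟨(f w)⁻¹ • f, ?_, by simp [inv_mul_cancel₀ hf]⟩
  have : f v ∈ (F ∙ v).map f := Submodule.mem_map_of_mem (Submodule.mem_span_singleton_self v)
  rw [hf', Submodule.mem_bot] at this
  simp [this]

theorem exists_vec_pair {φ ψ : (Fin n → F) →ₗ[F] F} (hφ : φ ∉ F ∙ ψ) :
    ∃ u, ψ u = 0 ∧ φ u = 1 := by
  obtain ⟨Φ, hΦ, hΦ'⟩ := Submodule.exists_dual_map_eq_bot_of_notMem hφ inferInstance
  obtain ⟨u, hu⟩ := (Module.evalEquiv F (Fin n → F)).surjective Φ
  have hval : ∀ χ, Φ χ = χ u := fun χ => by rw [← hu]; rfl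
  have h0 : Φ ψ ∈ (F ∙ ψ).map Φ := Submodule.mem_map_of_mem (Submodule.mem_span_singleton_self ψ)
  rw [hΦ', Submodule.mem_bot, hval] at h0
  rw [hval] at hΦ
  exact ⟨(φ u)⁻¹ • u, by simp [h0], by simp [inv_mul_cancel₀ hΦ]⟩

theorem lin_transitive {v w : Fin n → F} (hv : v ≠ 0) (hw : w ≠ 0) :
    ∃ (g : SpecialLinearGroup (Fin n) F) (c : F), w = c • (lin F n).act g v := by
  classical
  by_cases h : w ∈ F ∙ v
  · obtain ⟨c, rfl⟩ := Submodule.mem_span_singleton.1 h
    exact ⟨1, c, by rw [map_one]; rfl⟩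
  · have h' : w - v ∉ F ∙ v := fun hd =>
      h (by simpa using add_mem hd (Submodule.mem_span_singleton_self v))
    obtain ⟨f1, h1, h2⟩ := exists_form_sep h'
    obtain ⟨f2, h3⟩ := exists_form_one hv
    have hf : (f2 - f2 (w - v) • f1) (w - v) = 0 ∧ (f2 - f2 (w - v) • f1) v = 1 := by
      simp only [LinearMap.sub_apply, LinearMap.smul_apply, h1, h2, h3, smul_eq_mul]
      constructor <;> ring
    obtain ⟨g, hg⟩ := exists_transvection (w - v) (f2 - f2 (w - v) • f1) hf.1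
    exact ⟨g, 1, by rw [hg, hf.2, one_smul, one_smul, add_sub_cancel]⟩

theorem co_transitive {φ ψ : (Fin n → F) →ₗ[F] F} (hφ : φ ≠ 0) (hψ : ψ ≠ 0) :
    ∃ (g : SpecialLinearGroup (Fin n) F) (c : F), ψ = c • (co F n).act g φ := by
  by_cases h : ψ ∈ F ∙ φ
  · obtain ⟨c, rfl⟩ := Submodule.mem_span_singleton.1 h
    exact ⟨1, c, by rw [map_one]; rfl⟩
  · have h' : ψ - φ ∉ F ∙ φ := fun hd =>
      h (by simpa using add_mem hd (Submodule.mem_span_singleton_self φ))
    obtain ⟨u, hu1, hu2⟩ := exists_vec_pair h'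
    obtain ⟨z, hz⟩ : ∃ z, φ z = 1 := by
      obtain ⟨z, hz⟩ := DFunLike.ne_iff.1 hφ
      exact ⟨(φ z)⁻¹ • z, by simp [inv_mul_cancel₀ (show φ z ≠ 0 from hz)]⟩
    set u' := z - (ψ - φ) z • u with hu'
    have e1 : φ u' = 1 := by simp [hu', hz, hu1]
    have e2 : (ψ - φ) u' = 0 := by
      rw [hu', map_sub, map_smul, hu2, smul_eq_mul, mul_one, sub_self]
    obtain ⟨g, hg⟩ := exists_transvection u' (ψ - φ) e2
    refine ⟨g⁻¹, 1, LinearMap.ext fun v => ?_⟩
    rw [one_smul, co_apply, inv_inv, hg, map_add, map_smul, e1, smul_eq_mul, mul_one, LinearMap.sub_apply]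
    ring

section

variable {k : ℕ}

/-- The base vector. -/
def e0 (F : Type*) [Field F] (k : ℕ) : Fin (k + 2) → F := Pi.single 0 1

/-- The base form. -/
def psi0 (F : Type*) [Field F] (k : ℕ) : (Fin (k + 2) → F) →ₗ[F] F := LinearMap.proj (Fin.last (k + 1))

theorem e0_ne : e0 F k ≠ 0 := fun h => by
  have := congrFun h 0
  simp [e0] at this

theorem psi0_e0 : psi0 F k (e0 F k) = 0 := by
  simp [e0, psi0, Fin.ext_iff]

theorem psi0_ne : psi0 F k ≠ 0 := fun h => by
  have := LinearMap.congr_fun h (Pi.single (Fin.last (k + 1)) 1)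
  simp [psi0] at this

local notation "SLk" => SpecialLinearGroup (Fin (k + 2)) F
set_option quotPrecheck false in
local notation "A" => (lin F (k + 2)).act

theorem act_inv_apply (g : SLk) (v : Fin (k + 2) → F) : A g⁻¹ (A g v) = v := by
  rw [map_inv]; exact (A g).symm_apply_apply v

theorem act_apply_inv (g : SLk) (v : Fin (k + 2) → F) : A g (A g⁻¹ v) = v := by
  rw [map_inv]; exact (A g).apply_symm_apply v

/-- The elations with centre the base point. -/
def elat : Subgroup SLk where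
  carrier := {g | A g (e0 F k) = e0 F k ∧ ∀ v, ∃ d : F, A g v = v + d • e0 F k}
  one_mem' := ⟨by rw [map_one]; rfl, fun v => ⟨0, by rw [map_one, zero_smul, add_zero]; rfl⟩⟩
  mul_mem' := by
    rintro a b ⟨ha, ha'⟩ ⟨hb, hb'⟩
    refine ⟨by rw [map_mul, LinearEquiv.mul_apply, hb, ha], fun v => ?_⟩
    obtain ⟨d, hd⟩ := hb' v
    obtain ⟨d', hd'⟩ := ha' v
    exact ⟨d' + d, by rw [map_mul, LinearEquiv.mul_apply, hd, map_add, hd', map_smul, ha, add_smul, add_assoc]⟩
  inv_mem' := by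
    rintro a ⟨ha, ha'⟩
    refine ⟨?_, fun v => ?_⟩
    · conv_lhs => rw [← ha]
      exact act_inv_apply a _
    · obtain ⟨d, hd⟩ := ha' (A a⁻¹ v)
      rw [act_apply_inv] at hd
      exact ⟨-d, by rw [neg_smul, ← sub_eq_add_neg, eq_sub_iff_add_eq, ← hd]⟩

/-- The elations with axis the base hyperplane. -/
def axial : Subgroup SLk where
  carrier := {g | (∀ v, psi0 F k (A g v) = psi0 F k v) ∧ ∀ w, psi0 F k w = 0 → A g w = w}
  one_mem' := ⟨fun v => by rw [map_one]; rfl, fun w _ => by rw [map_one]; rfl⟩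
  mul_mem' := by
    rintro a b ⟨ha, ha'⟩ ⟨hb, hb'⟩
    exact ⟨fun v => by rw [map_mul, LinearEquiv.mul_apply, ha, hb],
      fun w hw => by rw [map_mul, LinearEquiv.mul_apply, hb' w hw, ha' w hw]⟩
  inv_mem' := by
    rintro a ⟨ha, ha'⟩
    refine ⟨fun v => ?_, fun w hw => ?_⟩
    · conv_rhs => rw [← act_apply_inv a v, ha]
    · conv_lhs => rw [← ha' w hw]
      exact act_inv_apply a w

/-- The unipotent group of the flag. -/
def flagU : Subgroup SLk where
  carrier := {g | A g (e0 F k) = e0 F k ∧ (∀ v, psi0 F k (A g v) = psi0 F k v) ∧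
    ∀ w, psi0 F k w = 0 → ∃ d : F, A g w = w + d • e0 F k}
  one_mem' := ⟨by rw [map_one]; rfl, fun v => by rw [map_one]; rfl,
    fun w _ => ⟨0, by rw [map_one, zero_smul, add_zero]; rfl⟩⟩
  mul_mem' := by
    rintro a b ⟨ha, ha', ha''⟩ ⟨hb, hb', hb''⟩
    refine ⟨by rw [map_mul, LinearEquiv.mul_apply, hb, ha],
      fun v => by rw [map_mul, LinearEquiv.mul_apply, ha', hb'], fun w hw => ?_⟩
    obtain ⟨d, hd⟩ := hb'' w hw
    obtain ⟨d', hd'⟩ := ha'' w hw
    exact ⟨d' + d, by rw [map_mul, LinearEquiv.mul_apply, hd, map_add, hd', map_smul, ha, add_smul, add_assoc]⟩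
  inv_mem' := by
    rintro a ⟨ha, ha', ha''⟩
    have h2 : ∀ v, psi0 F k (A a⁻¹ v) = psi0 F k v := fun v => by
      conv_rhs => rw [← act_apply_inv a v, ha']
    refine ⟨?_, h2, fun w hw => ?_⟩
    · conv_lhs => rw [← ha]
      exact act_inv_apply a _
    · obtain ⟨d, hd⟩ := ha'' (A a⁻¹ w) (by rw [h2, hw])
      rw [act_apply_inv] at hd
      exact ⟨-d, by rw [neg_smul, ← sub_eq_add_neg, eq_sub_iff_add_eq, ← hd]⟩

theorem sup_le_flagU : elat ⊔ axial ≤ (flagU : Subgroup SLk) := by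
  refine sup_le (fun g hg => ⟨hg.1, fun v => ?_, fun w _ => hg.2 w⟩) fun g hg =>
    ⟨hg.2 _ psi0_e0, hg.1, fun w hw => ⟨0, by rw [zero_smul, add_zero]; exact hg.2 w hw⟩⟩
  obtain ⟨d, hd⟩ := hg.2 v
  rw [hd, map_add, map_smul, psi0_e0, smul_zero, add_zero]

theorem isPGroup_flagU {p : ℕ} [Fact p.Prime] [CharP F p] : IsPGroup p (flagU : Subgroup SLk) := by
  refine isPGroup_of_cube_zero A SpecialLinearGroup.toLin'_injective _ fun r hr v => ?_
  have h1 : psi0 F k (A r v - v) = 0 := by rw [map_sub, hr.2.1, sub_self]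
  obtain ⟨d, hd⟩ := hr.2.2 _ h1
  rw [hd, add_sub_cancel_left, map_smul, hr.1]

theorem exists_elat {f : (Fin (k + 2) → F) →ₗ[F] F} (hf : f (e0 F k) = 0) :
    ∃ g ∈ (elat : Subgroup SLk), ∀ v, A g v = v + f v • e0 F k := by
  obtain ⟨g, hg⟩ := exists_transvection (e0 F k) f hf
  exact ⟨g, ⟨by rw [hg, hf, zero_smul, add_zero], fun v => ⟨f v, hg v⟩⟩, hg⟩

theorem exists_axial {u : Fin (k + 2) → F} (hu : psi0 F k u = 0) :
    ∃ g ∈ (axial : Subgroup SLk), ∀ v, A g v = v + psi0 F k v • u := by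
  obtain ⟨g, hg⟩ := exists_transvection u (psi0 F k) hu
  exact ⟨g, ⟨fun v => by rw [hg, map_add, map_smul, hu, smul_zero, add_zero],
    fun w hw => by rw [hg, hw, zero_smul, add_zero]⟩, hg⟩

/-- The base point. -/
noncomputable def x0 : (lin F (k + 2)).Pts := (lin F (k + 2)).ln (e0 F k) e0_ne trivial

/-- The base hyperplane. -/
noncomputable def y0 : (co F (k + 2)).Pts := (co F (k + 2)).ln (psi0 F k) psi0_ne trivial

theorem pre_lin (x : (lin F (k + 2)).Pts) : ∃ g : SLk, g • (x0 : (lin F (k + 2)).Pts) = x := by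
  obtain ⟨v, hv, hP, rfl⟩ := (lin F (k + 2)).exists_ln x
  obtain ⟨g, c, e⟩ := lin_transitive (e0_ne (F := F) (k := k)) hv
  exact ⟨g, (LineData.smul_ln_eq_iff _ g).2 ⟨c, e⟩⟩

theorem pre_co (y : (co F (k + 2)).Pts) : ∃ g : SLk, g • (y0 : (co F (k + 2)).Pts) = y := by
  obtain ⟨v, hv, hP, rfl⟩ := (co F (k + 2)).exists_ln y
  obtain ⟨g, c, e⟩ := co_transitive (psi0_ne (F := F) (k := k)) hv
  exact ⟨g, (LineData.smul_ln_eq_iff _ g).2 ⟨c, e⟩⟩

/-- A form and a vector are opposite. -/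
def opp (x : (lin F (k + 2)).Pts) (y : (co F (k + 2)).Pts) : Prop :=
  ∃ v ∈ x.1, ∃ φ ∈ y.1, φ v ≠ 0

theorem opp_ln {v : Fin (k + 2) → F} {φ : (Fin (k + 2) → F) →ₗ[F] F} {hv hP hφ hQ} :
    opp ((lin F (k + 2)).ln v hv hP) ((co F (k + 2)).ln φ hφ hQ) ↔ φ v ≠ 0 := by
  refine ⟨?_, fun h => ⟨v, Submodule.mem_span_singleton_self v, φ, Submodule.mem_span_singleton_self φ, h⟩⟩
  rintro ⟨w, hw, χ, hχ, h⟩ h0
  obtain ⟨a, rfl⟩ := Submodule.mem_span_singleton.1 hw
  obtain ⟨b, rfl⟩ := Submodule.mem_span_singleton.1 hχ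
  simp [h0] at h

end

theorem rigid (F : Type) [Field F] [Fintype F] {p : ℕ} [Fact p.Prime] [CharP F p] (n : ℕ) (hn : 2 ≤ n)
    [IsSimpleGroup (ProjectiveSpecialLinearGroup (Fin n) F)] :
    Rigid p (ProjectiveSpecialLinearGroup (Fin n) F) := by
  obtain ⟨k, rfl⟩ : ∃ k, n = k + 2 := ⟨n - 2, by omega⟩
  set π := QuotientGroup.mk' (Subgroup.center (SpecialLinearGroup (Fin (k + 2)) F)) with hπdef
  have hπ : Function.Surjective π := QuotientGroup.mk'_surjective _
  have hker : π.ker ≤ Subgroup.center (SpecialLinearGroup (Fin (k + 2)) F) := (QuotientGroup.ker_mk' _).le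
  have hNX : ∀ g, g • (x0 : (lin F (k + 2)).Pts) = x0 ↔ NormImg π elat g := by
    refine normImg_iff π hker pre_lin (fun r hr => ?_) (fun g hg r hr => ?_) fun x hx => ?_
    · exact (LineData.smul_ln_eq_iff _ r).2 ⟨1, by rw [hr.1, one_smul]⟩
    · obtain ⟨c, hc⟩ := (LineData.smul_ln_eq_iff _ g).1 hg
      have hi : (lin F (k + 2)).act g⁻¹ (e0 F k) = c • e0 F k := by
        conv_lhs => rw [hc, map_smul, act_inv_apply]
      refine ⟨?_, fun v => ?_⟩
      · rw [map_mul, LinearEquiv.mul_apply, map_mul, LinearEquiv.mul_apply, hi, map_smul, hr.1, map_smul, ← hc]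
      · obtain ⟨d, hd⟩ := hr.2 ((lin F (k + 2)).act g⁻¹ v)
        have hge : ∃ a : F, (lin F (k + 2)).act g (e0 F k) = a • e0 F k := by
          refine ⟨c⁻¹, ?_⟩
          rw [eq_inv_smul_iff₀ (fun h0 => e0_ne (by rw [hc, h0, zero_smul])), ← hc]
        obtain ⟨a, ha⟩ := hge
        refine ⟨d * a, ?_⟩
        rw [map_mul, LinearEquiv.mul_apply, map_mul, LinearEquiv.mul_apply, hd, map_add, act_apply_inv,
          map_smul, ha, smul_smul]
    · obtain ⟨v, hv, hP, rfl⟩ := (lin F (k + 2)).exists_ln x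
      refine (LineData.ln_eq_iff _).2 ?_
      by_contra h
      push Not at h
      have hv' : v ∉ F ∙ e0 F k := fun hm => by
        obtain ⟨c, rfl⟩ := Submodule.mem_span_singleton.1 hm
        refine h c⁻¹ ?_
        rw [inv_smul_smul₀ (fun hc => hv (by rw [hc, zero_smul]))]
      obtain ⟨f, hf1, hf2⟩ := exists_form_sep hv'
      obtain ⟨g, hg, hgv⟩ := exists_elat hf1
      obtain ⟨c, hc⟩ := (LineData.smul_ln_eq_iff _ g).1 (hx g hg)
      rw [hgv, hf2, one_smul] at hc
      have hc0 : c ≠ 0 := fun e => hv (by rw [hc, e, zero_smul])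
      have h1 : c • e0 F k = (1 - c) • v := by
        rw [sub_smul, one_smul, eq_sub_iff_add_eq, ← smul_add, add_comm (e0 F k) v]
        exact hc.symm
      by_cases hc1 : 1 - c = 0
      · rw [hc1, zero_smul, smul_eq_zero] at h1
        exact h1.elim hc0 e0_ne
      · exact hv' (Submodule.mem_span_singleton.2 ⟨(1 - c)⁻¹ * c, by
          rw [mul_smul, h1, inv_smul_smul₀ hc1]⟩)
  have hNY : ∀ g, g • (y0 : (co F (k + 2)).Pts) = y0 ↔ NormImg π axial g := by
    refine normImg_iff π hker pre_co (fun r hr => ?_) (fun g hg r hr => ?_) fun x hx => ?_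
    · refine (LineData.smul_ln_eq_iff _ r).2 ⟨1, LinearMap.ext fun v => ?_⟩
      rw [one_smul, co_apply]
      exact (((inv_mem hr : r⁻¹ ∈ axial).1) v).symm
    · obtain ⟨c, hc⟩ := (LineData.smul_ln_eq_iff _ g).1 hg
      have hc' : ∀ v, psi0 F k v = c * psi0 F k ((lin F (k + 2)).act g⁻¹ v) := fun v => by
        conv_lhs => rw [hc, LinearMap.smul_apply, co_apply, smul_eq_mul]
      have hc0 : c ≠ 0 := fun e => psi0_ne (by rw [hc, e, zero_smul])
      refine ⟨fun v => ?_, fun w hw => ?_⟩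
      · rw [hc', hc' v, map_mul, LinearEquiv.mul_apply, map_mul, LinearEquiv.mul_apply, act_inv_apply, hr.1]
      · have hw' := hc' w
        rw [hw, eq_comm, mul_eq_zero] at hw'
        rw [map_mul, LinearEquiv.mul_apply, map_mul, LinearEquiv.mul_apply, hr.2 _ (hw'.resolve_left hc0),
          act_apply_inv]
    · obtain ⟨φ, hφ, hP, rfl⟩ := (co F (k + 2)).exists_ln x
      refine (LineData.ln_eq_iff _).2 ?_
      by_contra h
      push Not at h
      have hφ' : φ ∉ F ∙ psi0 F k := fun hm => by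
        obtain ⟨c, rfl⟩ := Submodule.mem_span_singleton.1 hm
        refine h c⁻¹ ?_
        rw [inv_smul_smul₀ (fun hc => hφ (by rw [hc, zero_smul]))]
      obtain ⟨u, hu1, hu2⟩ := exists_vec_pair hφ'
      obtain ⟨g, hg, hgv⟩ := exists_axial hu1
      obtain ⟨c, hc⟩ := (LineData.smul_ln_eq_iff _ g⁻¹).1 (hx g⁻¹ (inv_mem hg))
      have hc' : ∀ v, φ v = c * (φ v + psi0 F k v) := fun v => by
        have e := LinearMap.congr_fun hc v
        simp only [LinearMap.smul_apply, co_apply, inv_inv, hgv, map_add, map_smul, hu2, smul_eq_mul,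
          mul_one] at e
        exact e
      have := hc' u
      rw [hu1, hu2, add_zero, mul_one] at this
      refine psi0_ne (F := F) (k := k) (LinearMap.ext fun v => ?_)
      have h1 := hc' v
      rw [← this, one_mul, left_eq_add] at h1
      exact h1
  refine rigid_of_pgroup ((elat ⊔ axial : Subgroup (SpecialLinearGroup (Fin (k + 2)) F)).map π)
    ((isPGroup_flagU.to_le sup_le_flagU).map π) fun α hα hfix => ?_
  have hN : ∀ r ∈ (elat ⊔ axial : Subgroup (SpecialLinearGroup (Fin (k + 2)) F)), α (π r) = π r :=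
    fun r hr => hfix _ (Subgroup.mem_map_of_mem π hr)
  obtain ⟨φ1, hφ1⟩ := exists_form_one (e0_ne (F := F) (k := k))
  have hφ10 : φ1 ≠ 0 := fun e => by rw [e, LinearMap.zero_apply] at hφ1; exact zero_ne_one hφ1
  have horb : ∀ φ : (Fin (k + 2) → F) →ₗ[F] F, φ (e0 F k) = 1 → ∀ hφ,
      ∃ r ∈ (elat : Subgroup (SpecialLinearGroup (Fin (k + 2)) F)),
        r • (co F (k + 2)).ln φ1 hφ10 trivial = (co F (k + 2)).ln φ hφ trivial := by
    intro φ h1 hφ
    obtain ⟨g, hg, hgv⟩ := exists_elat (f := φ - φ1) (by simp [h1, hφ1])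
    refine ⟨g⁻¹, inv_mem hg, (LineData.smul_ln_eq_iff _ _).2 ⟨1, LinearMap.ext fun v => ?_⟩⟩
    rw [one_smul, co_apply, inv_inv, hgv, map_add, map_smul, hφ1, smul_eq_mul, mul_one,
      LinearMap.sub_apply, add_sub_cancel]
  refine eq_one_of_opposite π hπ x0 y0 pre_lin pre_co elat axial
    (isPGroup_flagU.to_le (le_sup_left.trans sup_le_flagU)) hNX hNY opp ?_
    ((co F (k + 2)).ln φ1 hφ10 trivial) ?_ ?_ ?_ ?_ α hα
    (fun r hr => hN r (Subgroup.mem_sup_left hr)) (fun r hr => hN r (Subgroup.mem_sup_right hr))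
  · intro g x y h
    obtain ⟨v, hv, hP, rfl⟩ := (lin F (k + 2)).exists_ln x
    obtain ⟨φ, hφ, hQ, rfl⟩ := (co F (k + 2)).exists_ln y
    rw [LineData.smul_ln, LineData.smul_ln, opp_ln, co_apply, act_inv_apply]
    exact opp_ln.1 h
  · intro y
    obtain ⟨φ, hφ, hQ, rfl⟩ := (co F (k + 2)).exists_ln y
    refine opp_ln.trans ⟨fun h => ?_, ?_⟩
    · obtain ⟨r, hr, e⟩ := horb ((φ (e0 F k))⁻¹ • φ) (by simp [inv_mul_cancel₀ h])
        (smul_ne_zero (inv_ne_zero h) hφ)
      exact ⟨r, hr, e.trans ((LineData.ln_eq_iff _).2 ⟨φ (e0 F k), by rw [smul_inv_smul₀ h]⟩)⟩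
    · rintro ⟨r, hr, e⟩
      obtain ⟨c, hc⟩ := (LineData.smul_ln_eq_iff _ r).1 e
      rw [hc, LinearMap.smul_apply, co_apply, (inv_mem hr : r⁻¹ ∈ elat).1, hφ1, smul_eq_mul, mul_one]
      exact fun e' => hφ (by rw [hc, e', zero_smul])
  · intro y hy
    obtain ⟨φ, hφ, hQ, rfl⟩ := (co F (k + 2)).exists_ln y
    by_contra h
    have h0 : φ (e0 F k) = 0 := by
      by_contra h0
      exact h (opp_ln.2 h0)
    have hsub : MulAction.orbit (elat : Subgroup (SpecialLinearGroup (Fin (k + 2)) F)) ((co F (k + 2)).ln φ hφ hQ) ⊆ {(co F (k + 2)).ln φ hφ hQ} := by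
      rintro _ ⟨⟨r, hr⟩, rfl⟩
      refine (LineData.smul_ln_eq_iff _ r).2 ⟨1, LinearMap.ext fun v => ?_⟩
      obtain ⟨d, hd⟩ := (inv_mem hr : r⁻¹ ∈ elat).2 v
      rw [one_smul, co_apply, hd, map_add, map_smul, h0, smul_zero, add_zero]
    obtain ⟨f, hf, hf'⟩ : ∃ f : (Fin (k + 2) → F) →ₗ[F] F, f (e0 F k) = 0 ∧ f ≠ 0 :=
      ⟨psi0 F k, psi0_e0, psi0_ne⟩
    have hφ2 : (φ1 + f) (e0 F k) = 1 := by simp [hφ1, hf]
    have hφ20 : φ1 + f ≠ 0 := fun e => by rw [e, LinearMap.zero_apply] at hφ2; exact zero_ne_one hφ2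
    obtain ⟨r, hr, e⟩ := horb _ hφ2 hφ20
    have h2 : (co F (k + 2)).ln φ1 hφ10 trivial ≠ (co F (k + 2)).ln (φ1 + f) hφ20 trivial := fun e2 => by
      obtain ⟨c, hc⟩ := (LineData.ln_eq_iff _).1 e2
      have := LinearMap.congr_fun hc (e0 F k)
      simp [hφ1, hf] at this
      rw [← this, one_smul, add_eq_left] at hc
      exact hf' hc
    have hone : Nat.card (MulAction.orbit (elat : Subgroup (SpecialLinearGroup (Fin (k + 2)) F)) ((co F (k + 2)).ln φ hφ hQ)) ≤ 1 := by
      rw [Nat.card_coe_set_eq]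
      exact (Set.ncard_le_ncard hsub (Set.finite_singleton _)).trans (Set.ncard_singleton _).le
    have hfin : (MulAction.orbit (elat : Subgroup (SpecialLinearGroup (Fin (k + 2)) F)) ((co F (k + 2)).ln φ1 hφ10 trivial)).Finite :=
      Set.finite_range _
    have htwo : 1 < Nat.card (MulAction.orbit (elat : Subgroup (SpecialLinearGroup (Fin (k + 2)) F)) ((co F (k + 2)).ln φ1 hφ10 trivial)) := by
      rw [Nat.card_coe_set_eq, Set.one_lt_ncard hfin]
      exact ⟨_, MulAction.mem_orbit_self _, _, ⟨⟨r, hr⟩, e⟩, h2⟩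
    omega
  · intro x x' hxx
    obtain ⟨v, hv, hP, rfl⟩ := (lin F (k + 2)).exists_ln x
    obtain ⟨w, hw, hQ, rfl⟩ := (lin F (k + 2)).exists_ln x'
    have key : ∀ φ : (Fin (k + 2) → F) →ₗ[F] F, φ (e0 F k) ≠ 0 → (φ v ≠ 0 ↔ φ w ≠ 0) := by
      intro φ h
      have hφ : φ ≠ 0 := fun e => h (by rw [e, LinearMap.zero_apply])
      have := hxx ((co F (k + 2)).ln φ hφ trivial) (opp_ln.2 h)
      exact opp_ln.symm.trans (this.trans opp_ln)
    refine (LineData.ln_eq_iff _).2 ?_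
    by_contra h
    push Not at h
    have hw' : w ∉ F ∙ v := fun hm => by
      obtain ⟨c, hc⟩ := Submodule.mem_span_singleton.1 hm
      exact h c hc.symm
    by_cases hv0 : v ∈ F ∙ e0 F k
    · obtain ⟨a, rfl⟩ := Submodule.mem_span_singleton.1 hv0
      have ha : a ≠ 0 := fun e => hv (by rw [e, zero_smul])
      have hw0 : w ∉ F ∙ e0 F k := fun hm => hw' (by
        obtain ⟨b, rfl⟩ := Submodule.mem_span_singleton.1 hm
        exact Submodule.mem_span_singleton.2 ⟨b * a⁻¹, by rw [smul_smul, mul_assoc, inv_mul_cancel₀ ha, mul_one]⟩)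
      obtain ⟨f, hf1, hf2⟩ := exists_form_sep hw0
      set φ := φ1 - φ1 w • f with hφ
      have e1 : φ (e0 F k) = 1 := by simp [hφ, hφ1, hf1]
      have e2 : φ w = 0 := by simp [hφ, hf2]
      have := (key φ (by rw [e1]; exact one_ne_zero)).1 (by rw [map_smul, e1, smul_eq_mul, mul_one]; exact ha)
      exact this e2
    · obtain ⟨f, hf1, hf2⟩ := exists_form_sep hv0
      set φ := φ1 - φ1 v • f with hφ
      have e1 : φ (e0 F k) = 1 := by simp [hφ, hφ1, hf1]
      have e2 : φ v = 0 := by simp [hφ, hf2]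
      obtain ⟨g, hg1, hg2⟩ := exists_form_sep hw'
      by_cases hw2 : φ w = 0
      · -- add a form vanishing at `v` to make `w` visible
        by_cases hge : (φ + g) (e0 F k) = 0
        · set a := g - g (e0 F k) • φ with ha
          have e3 : (φ + a) (e0 F k) = 1 := by simp [ha, e1]
          have e4 : (φ + a) v = 0 := by simp [ha, e2, hg1]
          have e5 : (φ + a) w = 1 := by simp [ha, hw2, hg2]
          exact ((key _ (by rw [e3]; exact one_ne_zero)).2 (by rw [e5]; exact one_ne_zero)) e4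
        · exact ((key _ hge).2 (by simp [hw2, hg2])) (by simp [e2, hg1])
      · exact ((key φ (by rw [e1]; exact one_ne_zero)).2 hw2) e2
  · obtain ⟨f, hf⟩ := exists_form_one (e0_ne (F := F) (k := k))
    refine ⟨(lin F (k + 2)).ln (Pi.single (Fin.last (k + 1)) 1) (fun e => by
      have := congrFun e (Fin.last (k + 1)); simp at this) trivial, fun e => ?_⟩
    obtain ⟨c, hc⟩ := (LineData.ln_eq_iff _).1 e
    have := congrFun hc 0
    simp [e0, Fin.ext_iff] at this

end Cfsg.Agent.Lib.FixSylow.Linear
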