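import Mathlib
import Cfsg.Agent.Lib.FixSylow.Lines

/-!
Rigidity for a group acting transitively on the singular points of a polar space.

`e0` is the base vector, `ω` the form, `psi` the linear form `ω e0` (up to a field automorphism).  The group fixed
is that of the isometries fixing `e0` and acting trivially on `e0⊥` modulo `e0`.
-/

set_option autoImplicit false

namespace Cfsg.Agent.Lib.FixSylow

/-- A polar space with a group on it and a base vector. -/
structure PolarData (F V L : Type*) [Field F] [AddCommGroup V] [Module F V] [Group L]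
    extends LineData F V L where
  /-- the form -/
  ω : V → V → F
  /-- the automorphism of the form -/
  σ : F →+* F
  /-- the base vector -/
  e0 : V
  e0_ne : e0 ≠ 0
  P_e0 : P e0
  P_smul : ∀ (c : F) v, P v → P (c • v)
  /-- the linear form of the base vector -/
  psi : V →ₗ[F] F
  omega_e0 : ∀ v, ω e0 v = σ (psi v)
  omega_smul : ∀ (a b : F) v w, ω (a • v) (b • w) = a * σ b * ω v w
  omega_act : ∀ g v w, ω (act g v) (act g w) = ω v w

namespace PolarData

variable {F : Type*} [Field F] {V : Type*} [AddCommGroup V] [Module F V] {L : Type*} [Group L]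
  (D : PolarData F V L)

theorem act_inv_apply (g : L) (v : V) : D.act g⁻¹ (D.act g v) = v := by
  rw [map_inv]; exact (D.act g).symm_apply_apply v

theorem act_apply_inv (g : L) (v : V) : D.act g (D.act g⁻¹ v) = v := by
  rw [map_inv]; exact (D.act g).apply_symm_apply v

theorem psi_act {g : L} {a : F} (hg : D.act g D.e0 = a • D.e0) (ha : a ≠ 0) (v : V) :
    D.psi (D.act g v) = 0 ↔ D.psi v = 0 := by
  have h := D.omega_act g D.e0 v
  rw [hg, ← one_smul F (D.act g v), D.omega_smul, map_one, mul_one, D.omega_e0, D.omega_e0] at h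
  rw [← map_eq_zero_iff _ D.σ.injective, ← map_eq_zero_iff _ D.σ.injective (x := D.psi v), ← h, mul_eq_zero,
    or_iff_right ha]

theorem psi_fixed {g : L} (hg : D.act g D.e0 = D.e0) (v : V) : D.psi (D.act g v) = D.psi v := by
  have h := D.omega_act g D.e0 v
  rw [hg, D.omega_e0, D.omega_e0] at h
  exact D.σ.injective h

/-- The isometries fixing `e0` and trivial on `e0⊥` modulo `e0`. -/
def radical : Subgroup L where
  carrier := {g | D.act g D.e0 = D.e0 ∧ ∀ v, D.psi v = 0 → ∃ d : F, D.act g v = v + d • D.e0}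
  one_mem' := ⟨by rw [map_one]; rfl, fun v _ => ⟨0, by rw [map_one, zero_smul, add_zero]; rfl⟩⟩
  mul_mem' := by
    rintro a b ⟨ha, ha'⟩ ⟨hb, hb'⟩
    refine ⟨by rw [map_mul, LinearEquiv.mul_apply, hb, ha], fun v hv => ?_⟩
    obtain ⟨d, hd⟩ := hb' v hv
    obtain ⟨d', hd'⟩ := ha' v hv
    exact ⟨d' + d, by rw [map_mul, LinearEquiv.mul_apply, hd, map_add, hd', map_smul, ha, add_smul, add_assoc]⟩
  inv_mem' := by
    rintro a ⟨ha, ha'⟩
    refine ⟨?_, fun v hv => ?_⟩
    · conv_lhs => rw [← ha]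
      exact D.act_inv_apply a _
    · obtain ⟨d, hd⟩ := ha' (D.act a⁻¹ v) (by rw [← D.psi_fixed ha, D.act_apply_inv, hv])
      rw [D.act_apply_inv] at hd
      exact ⟨-d, by rw [neg_smul, ← sub_eq_add_neg, eq_sub_iff_add_eq, ← hd]⟩

theorem isPGroup_radical {p : ℕ} [Fact p.Prime] [CharP F p] (hinj : Function.Injective D.act) :
    IsPGroup p D.radical := by
  refine isPGroup_of_cube_zero D.act hinj _ fun r hr v => ?_
  obtain ⟨d, hd⟩ := hr.2 (D.act r v - v) (by rw [map_sub, D.psi_fixed hr.1, sub_self])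
  rw [hd, add_sub_cancel_left, map_smul, hr.1]

/-- Two points are opposite. -/
def opp (x y : D.Pts) : Prop := ∃ v ∈ x.1, ∃ w ∈ y.1, D.ω v w ≠ 0

theorem opp_ln {v w : V} {hv : v ≠ 0} {hP : D.P v} {hw : w ≠ 0} {hQ : D.P w} :
    D.opp (D.ln v hv hP) (D.ln w hw hQ) ↔ D.ω v w ≠ 0 := by
  refine ⟨?_, fun h => ⟨v, Submodule.mem_span_singleton_self v, w, Submodule.mem_span_singleton_self w, h⟩⟩
  rintro ⟨v', hv', w', hw', h⟩ h0
  obtain ⟨a, rfl⟩ := Submodule.mem_span_singleton.1 hv'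
  obtain ⟨b, rfl⟩ := Submodule.mem_span_singleton.1 hw'
  rw [D.omega_smul, h0, mul_zero] at h
  exact h rfl

theorem rigid [Finite F] [Finite L] (hact : Function.Injective D.act) {p : ℕ} [Fact p.Prime] [CharP F p]
    (htrans : ∀ v, v ≠ 0 → D.P v → ∃ (g : L) (c : F), v = c • D.act g D.e0)
    (huniq : ∀ v, v ≠ 0 → D.P v → (∀ r ∈ D.radical, ∃ c : F, v = c • D.act r v) → ∃ c : F, D.e0 = c • v)
    (f0 : V) (hf0 : D.P f0) (hpsi : D.psi f0 = 1)
    (hfar : ∀ v, D.P v → D.psi v = 1 → ∃ r ∈ D.radical, D.act r f0 = v)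
    (hcard : Nat.card F < Nat.card {v : V // D.P v ∧ D.psi v = 1})
    (hinj : ∀ v w, v ≠ 0 → D.P v → w ≠ 0 → D.P w →
      (∀ u, D.P u → D.psi u = 1 → (D.ω v u = 0 ↔ D.ω w u = 0)) → ∃ c : F, w = c • v)
    {G : Type*} [Group G] [Finite G] [IsSimpleGroup G] (π : L →* G) (hπ : Function.Surjective π)
    (hker : π.ker ≤ Subgroup.center L) : Rigid p G := by
  have hne : ∀ v, D.psi v = 1 → v ≠ 0 := fun v hv e => by rw [e, map_zero] at hv; exact zero_ne_one hv
  let x0 : D.Pts := D.ln D.e0 D.e0_ne D.P_e0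
  let s0 : D.Pts := D.ln f0 (hne f0 hpsi) hf0
  have hX : ∀ x, ∃ g : L, g • x0 = x := by
    intro x
    obtain ⟨v, hv, hP, rfl⟩ := D.exists_ln x
    obtain ⟨g, c, e⟩ := htrans v hv hP
    exact ⟨g, (D.smul_ln_eq_iff g).2 ⟨c, e⟩⟩
  have hfix : ∀ r ∈ D.radical, r • x0 = x0 := fun r hr =>
    (D.smul_ln_eq_iff r).2 ⟨1, by rw [one_smul, hr.1]⟩
  have hNX : ∀ g, g • x0 = x0 ↔ NormImg π D.radical g := by
    refine normImg_iff π hker hX hfix (fun g hg r hr => ?_) fun x hx => ?_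
    · obtain ⟨c, hc⟩ := (D.smul_ln_eq_iff g).1 hg
      have hc0 : c ≠ 0 := fun e => D.e0_ne (by rw [hc, e, zero_smul])
      have ha : D.act g D.e0 = c⁻¹ • D.e0 := by rw [eq_inv_smul_iff₀ hc0, ← hc]
      have hi : D.act g⁻¹ D.e0 = c • D.e0 := by
        conv_lhs => rw [hc, map_smul, D.act_inv_apply]
      refine ⟨?_, fun v hv => ?_⟩
      · rw [map_mul, LinearEquiv.mul_apply, map_mul, LinearEquiv.mul_apply, hi, map_smul, hr.1,
          map_smul, ← hc]
      · have hy : D.psi (D.act g⁻¹ v) = 0 := by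
          rw [← D.psi_act ha (inv_ne_zero hc0), D.act_apply_inv, hv]
        obtain ⟨d, hd⟩ := hr.2 _ hy
        refine ⟨d * c⁻¹, ?_⟩
        rw [map_mul, LinearEquiv.mul_apply, map_mul, LinearEquiv.mul_apply, hd, map_add, D.act_apply_inv,
          map_smul, ha, smul_smul]
    · obtain ⟨v, hv, hP, rfl⟩ := D.exists_ln x
      exact (D.ln_eq_iff).2 (huniq v hv hP fun r hr => (D.smul_ln_eq_iff r).1 (hx r hr))
  refine rigid_of_self π hπ x0 hX D.radical (D.isPGroup_radical hact) hNX D.opp ?_ s0 ?_ ?_ ?_ ?_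
  · intro g x y hxy
    obtain ⟨v, hv, hP, rfl⟩ := D.exists_ln x
    obtain ⟨w, hw, hQ, rfl⟩ := D.exists_ln y
    rw [D.smul_ln, D.smul_ln, D.opp_ln, D.omega_act]
    exact (D.opp_ln).1 hxy
  · intro y
    obtain ⟨w, hw, hQ, rfl⟩ := D.exists_ln y
    refine (D.opp_ln).trans ?_
    rw [D.omega_e0, ne_eq, map_eq_zero_iff _ D.σ.injective]
    refine ⟨fun hy => ?_, ?_⟩
    · obtain ⟨r, hr, e⟩ := hfar ((D.psi w)⁻¹ • w) (D.P_smul _ _ hQ) (by simp [inv_mul_cancel₀ hy])
      exact ⟨r, hr, (D.smul_ln_eq_iff r).2 ⟨D.psi w, by rw [e, smul_inv_smul₀ hy]⟩⟩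
    · rintro ⟨r, hr, e⟩ h0
      obtain ⟨c, hc⟩ := (D.smul_ln_eq_iff r).1 e
      rw [hc, map_smul, D.psi_fixed hr.1, hpsi, smul_eq_mul, mul_one] at h0
      exact hw (by rw [hc, h0, zero_smul])
  · intro y hy
    obtain ⟨w, hw, hQ, rfl⟩ := D.exists_ln y
    by_contra hop
    replace hop : D.psi w = 0 := by
      by_contra h0
      exact hop ((D.opp_ln).2 (by rwa [D.omega_e0, ne_eq, map_eq_zero_iff _ D.σ.injective]))
    refine absurd hy (not_le.2 (card_orbit_lt (Z := F) (Z' := {v : V // D.P v ∧ D.psi v = 1})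
      (fun x : D.Pts => x.1) Subtype.val_injective (fun t => F ∙ (w + t • D.e0)) ?_
      (fun q => D.ln q.1 (hne _ q.2.2) q.2.1) ?_ ?_ hcard))
    · intro r hr
      obtain ⟨d, hd⟩ := hr.2 w hop
      refine ⟨d, ?_⟩
      rw [D.smul_ln]
      show (F ∙ D.act r w) = _
      rw [hd]
    · rintro ⟨v, hPv, h1⟩
      obtain ⟨r, hr, e⟩ := hfar v hPv h1
      exact ⟨⟨r, hr⟩, (D.smul_ln_eq_iff r).2 ⟨1, by rw [one_smul, e]⟩⟩
    · rintro ⟨v, hPv, h1⟩ ⟨v', hPv', h1'⟩ e
      obtain ⟨k, hk⟩ := (D.ln_eq_iff).1 e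
      have hk' := congrArg D.psi hk
      rw [map_smul, h1, h1', smul_eq_mul, mul_one] at hk'
      exact Subtype.ext (by rw [hk, ← hk', one_smul])
  · intro x x' hxx
    obtain ⟨v, hv, hP, rfl⟩ := D.exists_ln x
    obtain ⟨w, hw, hQ, rfl⟩ := D.exists_ln x'
    refine (D.ln_eq_iff).2 (hinj v w hv hP hw hQ fun u hu h1 => ?_)
    have := hxx (D.ln u (hne u h1) hu) ((D.opp_ln).2 (by rw [D.omega_e0, h1, map_one]; exact one_ne_zero))
    exact not_iff_not.1 ((D.opp_ln).symm.trans (this.trans D.opp_ln))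
  · refine ⟨s0, fun e => ?_⟩
    obtain ⟨c, hc⟩ := (D.ln_eq_iff).1 e
    obtain ⟨r, hr, hr'⟩ := hfar f0 hf0 hpsi
    have hpe : D.psi D.e0 = c := by rw [hc, map_smul, hpsi, smul_eq_mul, mul_one]
    have hc0 : c ≠ 0 := fun h0 => D.e0_ne (by rw [hc, h0, zero_smul])
    -- every unipotent fixing `e0` would fix `f0`, so there would be one opposite point only
    have hone : ∀ q : {v : V // D.P v ∧ D.psi v = 1}, q = ⟨f0, hf0, hpsi⟩ := by
      rintro ⟨v, hPv, h1⟩
      obtain ⟨r, hr, e'⟩ := hfar v hPv h1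
      have h2 := hr.1
      rw [hc, map_smul, e'] at h2
      exact Subtype.ext (smul_right_injective V hc0 h2)
    have : Subsingleton {v : V // D.P v ∧ D.psi v = 1} := ⟨fun a b => (hone a).trans (hone b).symm⟩
    have h1 := Finite.one_lt_card (α := F)
    have h2 : Nat.card {v : V // D.P v ∧ D.psi v = 1} ≤ 1 := Finite.card_le_one_iff_subsingleton.2 this
    omega

end PolarData

end Cfsg.Agent.Lib.FixSylow
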