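import Mathlib
import Cfsg.Agent.Lib.FixSylow.Polar
import Cfsg.Agent.Lib.Classical.EichlerStandard

/-!
The projective orthogonal groups: singular points.
-/

set_option autoImplicit false

namespace Cfsg.Agent.Lib.FixSylow.Orthogonal

open Cfsg.Agent.Lib.Classical QuadraticMap

variable {F : Type*} [Field F] {V : Type*} [AddCommGroup V] [Module F V] {Q : QuadraticForm F V} {e f : V}

/-- The singular points. -/
noncomputable def sing (Q : QuadraticForm F V) : PolarData F (F × F × V) (eichlerGroup Q) where
  act := (eichlerGroup Q).subtype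
  P v := hypExt Q v = 0
  act_P g v hv := by
    show hypExt Q (g.1 v) = 0
    rw [eichlerGroup_le Q g.2 v, hv]
  ω := polar (hypExt Q)
  σ := RingHom.id F
  e0 := (1, 0, 0)
  e0_ne h := one_ne_zero (congrArg Prod.fst h)
  P_e0 := by simp [hypExt_apply]
  P_smul c v hv := by rw [QuadraticMap.map_smul, hv, smul_zero]
  psi := (LinearMap.fst F F V).comp (LinearMap.snd F F (F × V))
  omega_e0 v := by simp [polar_hypExt]
  omega_smul a b v w := by
    rw [polar_smul_left, polar_smul_right, smul_eq_mul, smul_eq_mul, RingHom.id_apply, mul_assoc]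
  omega_act g v w := isometry_polar (eichlerGroup_le Q g.2) v w

theorem eq_zero_of_singular_perp (h : IsotropicNondeg Q e f) {d : V}
    (hd : ∀ z, Q z = 0 → polar Q z d = 0) : d = 0 := by
  have key : ∀ u, polar Q u e ≠ 0 → polar Q u d = 0 := by
    intro u hu
    set t := -(Q u) / polar Q u e with ht
    have hs : Q (u + t • e) = 0 := by
      rw [QuadraticMap.map_add (⇑Q), QuadraticMap.map_smul, h.e_sing, polar_smul_right, smul_eq_mul,
        smul_eq_mul, mul_zero, add_zero, ht, div_mul_cancel₀ _ hu, add_neg_cancel]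
    have := hd _ hs
    rwa [polar_add_left, polar_smul_left, hd e h.e_sing, smul_zero, add_zero] at this
  refine h.nondeg d fun u => ?_
  rw [polar_comm]
  by_cases hu : polar Q u e = 0
  · have h1 := key (u + f) (by rw [polar_add_left, hu, zero_add, polar_comm, h.ef]; exact one_ne_zero)
    rwa [polar_add_left, hd f h.f_sing, add_zero] at h1
  · exact key u hu

theorem siegel_mem_radical (w : V) :
    (⟨hypSiegel Q w, hypSiegel_mem_eichler Q w⟩ : eichlerGroup Q) ∈ (sing Q).radical := by
  refine ⟨?_, fun v hv => ⟨-polar Q w v.2.2, ?_⟩⟩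
  · show hypSiegel Q w (1, 0, 0) = (1, 0, 0)
    simp [hypSiegel_apply]
  · replace hv : v.2.1 = 0 := hv
    show hypSiegel Q w v = v + _ • ((1 : F), (0 : F), (0 : V))
    rw [hypSiegel_apply, hv]
    ext <;> simp [hv, sub_eq_add_neg]

theorem rigid_core [Finite F] [Finite V] (h : IsotropicNondeg Q e f) {p : ℕ} [Fact p.Prime] [CharP F p]
    {G : Type*} [Group G] [Finite G] [IsSimpleGroup G] (π : eichlerGroup Q →* G)
    (hπ : Function.Surjective π) (hker : π.ker ≤ Subgroup.center (eichlerGroup Q)) : Rigid p G := by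
  have : Finite ((F × F × V) ≃ₗ[F] (F × F × V)) :=
    Finite.of_injective (fun g => (g : F × F × V → F × F × V)) DFunLike.coe_injective
  refine (sing Q).rigid Subtype.val_injective (fun v hv hP => ?_) (fun v hv hP hfix => ?_)
    (0, 1, 0) (by simp [sing, hypExt_apply]) rfl (fun v hP hv => ?_) ?_ (fun v w hv hP hw hQ huv => ?_) π hπ hker
  · obtain ⟨g, hg, e'⟩ := eichler_move_singular h v hv hP
    exact ⟨⟨g, hg⟩, 1, by rw [one_smul]; exact e'.symm⟩
  · have hy : v.2.1 = 0 := by
      by_contra hy
      obtain ⟨c, hc⟩ := hfix _ (siegel_mem_radical e)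
      have h1 := congrArg (fun q : F × F × V => q.2.1) hc
      have h2 := congrArg (fun q : F × F × V => q.2.2) hc
      simp [sing, hypSiegel_apply] at h1 h2
      rcases eq_or_ne c 1 with rfl | h3
      · rw [one_smul, one_smul, left_eq_add] at h2
        exact (smul_eq_zero.1 h2).elim hy h.e_ne_zero
      · exact h3 (mul_right_cancel₀ hy (by linear_combination -h1))
    have hz : v.2.2 = 0 := by
      by_contra hz
      obtain ⟨w, hw⟩ : ∃ w, polar Q w v.2.2 ≠ 0 := by
        by_contra hne
        push Not at hne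
        exact hz (h.nondeg _ fun w => by rw [polar_comm]; exact hne w)
      obtain ⟨c, hc⟩ := hfix _ (siegel_mem_radical w)
      have h1 := congrArg (fun q : F × F × V => q.2.2) hc
      have h2 := congrArg Prod.fst hc
      simp [sing, hypSiegel_apply, hy] at h1 h2
      rcases eq_or_ne c 1 with rfl | h3
      · exact hw (by linear_combination h2)
      · refine hz ((smul_eq_zero.1 (show (c - 1) • v.2.2 = 0 from ?_)).resolve_left (sub_ne_zero.2 h3))
        rw [sub_smul, one_smul, ← h1, sub_self]
    have hx : v.1 ≠ 0 := fun e' => hv (Prod.ext e' (Prod.ext hy hz))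
    exact ⟨v.1⁻¹, by ext <;> simp [sing, hy, hz, inv_mul_cancel₀ hx]⟩
  · replace hv : v.2.1 = 1 := hv
    replace hP : v.1 * v.2.1 + Q v.2.2 = 0 := hP
    refine ⟨_, siegel_mem_radical v.2.2, ?_⟩
    show hypSiegel Q v.2.2 (0, 1, 0) = v
    rw [hypSiegel_apply]
    rw [hv, mul_one] at hP
    ext
    · simp; linear_combination -hP
    · simp [hv]
    · simp
  · have hVbig : Nat.card (F × F) ≤ Nat.card V := by
      refine Nat.card_le_card_of_injective (fun ab : F × F => ab.1 • e + ab.2 • f) fun a b hab => ?_
      have h1 := congrArg (fun v => polar Q v f) hab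
      have h2 := congrArg (fun v => polar Q v e) hab
      simp only [polar_add_left, polar_smul_left, polar_self, h.e_sing, h.f_sing, h.ef,
        polar_comm (⇑Q) f e, smul_eq_mul, smul_zero, mul_zero, mul_one, add_zero, zero_add] at h1 h2
      exact Prod.ext h1 h2
    have hle : Nat.card V ≤ Nat.card {v : F × F × V // (sing Q).P v ∧ (sing Q).psi v = 1} := by
      refine Nat.card_le_card_of_injective (fun z => ⟨(-Q z, 1, z), ?_, rfl⟩) fun a b hab => ?_
      · show hypExt Q (-Q z, 1, z) = 0
        simp [hypExt_apply]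
      · exact congrArg (fun q : {v : F × F × V // (sing Q).P v ∧ (sing Q).psi v = 1} => q.1.2.2) hab
    rw [Nat.card_prod] at hVbig
    have := Finite.one_lt_card (α := F)
    nlinarith
  · replace hP : v.1 * v.2.1 + Q v.2.2 = 0 := hP
    replace hQ : w.1 * w.2.1 + Q w.2.2 = 0 := hQ
    have key : ∀ z, v.1 + v.2.1 * -Q z + polar Q v.2.2 z = 0 ↔ w.1 + w.2.1 * -Q z + polar Q w.2.2 z = 0 := by
      intro z
      have := huv (-Q z, 1, z) (by show hypExt Q _ = 0; simp [hypExt_apply]) rfl
      simp only [sing, polar_hypExt] at this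
      simpa [mul_comm] using this
    -- a far point and a near point never have the same zeros
    have mixed : ∀ v w : F × F × V, v.1 * v.2.1 + Q v.2.2 = 0 → v.2.1 ≠ 0 → w.2.1 = 0 → w ≠ 0 →
        (∀ z, v.1 + v.2.1 * -Q z + polar Q v.2.2 z = 0 ↔ w.1 + w.2.1 * -Q z + polar Q w.2.2 z = 0) → False := by
      intro v w hP hy hy' hw hk
      set a := v.2.1⁻¹ • v.2.2 with ha
      have hsub : ∀ z0, Q z0 = 0 → w.1 + polar Q w.2.2 (a + z0) = 0 := by
        intro z0 hz0
        have := (hk (a + z0)).1 (by
          simp only [ha, QuadraticMap.map_add (⇑Q), QuadraticMap.map_smul, polar_add_right, polar_smul_right,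
            polar_smul_left, polar_self, hz0, smul_eq_mul, nsmul_eq_mul, Nat.cast_ofNat]
          field_simp
          linear_combination hP)
        rwa [hy', zero_mul, add_zero] at this
      have h0 := hsub 0 (QuadraticMap.map_zero Q)
      rw [add_zero] at h0
      have hz : w.2.2 = 0 := eq_zero_of_singular_perp h fun z hz => by
        have := hsub z hz
        rw [polar_add_right] at this
        rw [polar_comm]; linear_combination this - h0
      rw [hz, polar_zero_left, add_zero] at h0
      exact hw (Prod.ext h0 (Prod.ext hy' hz))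
    by_cases hy : v.2.1 = 0
    · by_cases hy' : w.2.1 = 0
      · let φ : F × F × V → (F × V →ₗ[F] F) := fun v =>
          v.1 • LinearMap.fst F F V + (Q.polarBilin v.2.2).comp (LinearMap.snd F F V)
        have hφ : ∀ u tw, φ u tw = u.1 * tw.1 + polar Q u.2.2 tw.2 := fun u tw => rfl
        obtain ⟨c, hc⟩ := proportional_of_zeros (φ := φ v) (φ' := φ w) (ψ := LinearMap.fst F F V)
          (u0 := (1, 0)) rfl (fun u hu => by
            have := key u.2
            simp only [LinearMap.fst_apply] at hu
            simpa [hφ, hu, hy, hy'] using this) (fun e0 => hv (by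
            have hx : v.1 = 0 := by simpa [hφ] using LinearMap.congr_fun e0 (1, 0)
            refine Prod.ext hx (Prod.ext hy (h.nondeg _ fun z => ?_))
            simpa [hφ] using LinearMap.congr_fun e0 (0, z)))
        refine ⟨c, Prod.ext ?_ (Prod.ext ?_ ?_)⟩
        · simpa [hφ] using LinearMap.congr_fun hc (1, 0)
        · simp [hy, hy']
        · refine sub_eq_zero.1 (h.nondeg _ fun z => ?_)
          have := LinearMap.congr_fun hc (0, z)
          simp only [hφ, LinearMap.smul_apply, mul_zero, zero_add, smul_eq_mul] at this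
          rw [polar_sub_left, Prod.smul_snd, Prod.smul_snd, polar_smul_left, this, smul_eq_mul, sub_self]
      · exact (mixed w v hQ hy' hy hv fun z => (key z).symm).elim
    · by_cases hy' : w.2.1 = 0
      · exact (mixed v w hP hy hy' hw key).elim
      · set a := v.2.1⁻¹ • v.2.2 with ha
        set b := w.2.1⁻¹ • w.2.2 with hb
        have hk : ∀ z, Q (z - a) = 0 ↔ Q (z - b) = 0 := by
          have aux : ∀ v : F × F × V, v.1 * v.2.1 + Q v.2.2 = 0 → v.2.1 ≠ 0 → ∀ z,
              v.1 + v.2.1 * -Q z + polar Q v.2.2 z = -v.2.1 * Q (z - v.2.1⁻¹ • v.2.2) := by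
            intro v hP hy z
            rw [sub_eq_add_neg, QuadraticMap.map_add (⇑Q), QuadraticMap.map_neg, QuadraticMap.map_smul,
              polar_neg_right, polar_smul_right, polar_comm (⇑Q) z v.2.2, smul_eq_mul, smul_eq_mul]
            field_simp
            linear_combination hP
          intro z
          have := key z
          rwa [aux v hP hy, aux w hQ hy', mul_eq_zero, mul_eq_zero, or_iff_right (neg_ne_zero.2 hy),
            or_iff_right (neg_ne_zero.2 hy')] at this
        have hd : b - a = 0 := by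
          have h0 : Q (b - a) = 0 := (hk b).2 (by rw [sub_self, QuadraticMap.map_zero])
          refine eq_zero_of_singular_perp h fun z hz => ?_
          have := (hk (a + z)).1 (by rw [add_sub_cancel_left, hz])
          rw [show a + z - b = z + -(b - a) by abel, QuadraticMap.map_add (⇑Q), hz, QuadraticMap.map_neg, h0,
            polar_neg_right, zero_add, zero_add, neg_eq_zero] at this
          exact this
        rw [sub_eq_zero] at hd
        refine ⟨w.2.1 / v.2.1, Prod.ext ?_ (Prod.ext ?_ ?_)⟩
        · have e1 : Q v.2.2 = v.2.1 ^ 2 * Q a := by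
            rw [ha, QuadraticMap.map_smul, smul_eq_mul]; field_simp
          have e2 : Q w.2.2 = w.2.1 ^ 2 * Q a := by
            rw [← hd, hb, QuadraticMap.map_smul, smul_eq_mul]; field_simp
          simp only [Prod.smul_fst, smul_eq_mul]
          field_simp
          apply mul_left_cancel₀ (mul_ne_zero hy hy')
          linear_combination (v.2.1 ^ 2) * (hQ - e2) - (w.2.1 ^ 2) * (hP - e1)
        · simp [div_mul_cancel₀ _ hy]
        · have : w.2.2 = w.2.1 • b := by rw [hb, smul_inv_smul₀ hy']
          rw [this, hd, ha, smul_smul, Prod.smul_snd, Prod.smul_snd, div_eq_mul_inv]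

theorem rigid_model {F : Type} [Field F] [Fintype F] {W : Type*} [AddCommGroup W] [Module F W] [Finite W]
    [FiniteDimensional F W] {Q' : QuadraticForm F W} {e f : W} {ι : Type} [Fintype ι] [DecidableEq ι]
    {P : QuadraticForm F (ι → F)} (M : TwoPlaneModel P Q') (h : IsotropicNondeg Q' e f) {p : ℕ}
    [Fact p.Prime] [CharP F p] : Rigid p (Cfsg.POmega F ⇑P) := by
  have := M.isSimpleGroup h
  refine rigid_core h.ext
    ((QuotientGroup.mk' (Subgroup.center (Cfsg.Omega F ⇑P))).comp (M.omegaEquiv h).symm.toMonoidHom)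
    ((QuotientGroup.mk'_surjective _).comp (M.omegaEquiv h).symm.surjective) fun z hz => ?_
  rw [MonoidHom.mem_ker, MonoidHom.comp_apply, QuotientGroup.mk'_apply, QuotientGroup.eq_one_iff] at hz
  exact Subgroup.mem_center_iff.2 fun g => (M.omegaEquiv h).symm.injective (by
    rw [map_mul, map_mul]
    exact Subgroup.mem_center_iff.1 hz _)

theorem rigid_plus (F : Type) [Field F] [Fintype F] {p : ℕ} [Fact p.Prime] [CharP F p] (m : ℕ) (hm : 3 ≤ m) :
    Rigid p (Cfsg.POmega F (Cfsg.quadFormPlus m F)) := by
  obtain ⟨k, rfl⟩ : ∃ k, m = k + 3 := ⟨m - 3, by omega⟩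
  rw [← coe_plusForm]
  exact rigid_model (plusModel k) (isotropicNondeg_hypTower nondeg_zero_fin k)

theorem rigid_odd (F : Type) [Field F] [Fintype F] {p : ℕ} [Fact p.Prime] [CharP F p] (m : ℕ) (hm : 3 ≤ m)
    (hodd : Odd (Fintype.card F)) : Rigid p (Cfsg.POmega F (Cfsg.quadFormOdd m F)) := by
  obtain ⟨k, rfl⟩ : ∃ k, m = k + 3 := ⟨m - 3, by omega⟩
  rw [← coe_oddQuadForm]
  exact rigid_model (oddModel k) (isotropicNondeg_hypTower (nondeg_sq (two_ne_zero_of_odd_card hodd)) k)

theorem rigid_minus (F : Type) [Field F] [Fintype F] {p : ℕ} [Fact p.Prime] [CharP F p] (m : ℕ) (hm : 4 ≤ m)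
    (a b : F) (hab : ∀ z₁ z₂ : F, z₁ ^ 2 + a * z₁ * z₂ + b * z₂ ^ 2 = 0 → z₁ = 0 ∧ z₂ = 0) :
    Rigid p (Cfsg.POmega F (Cfsg.quadFormMinus (m - 1) F a b)) := by
  obtain ⟨k, hk⟩ : ∃ k, m - 1 = k + 3 := ⟨m - 4, by omega⟩
  rw [hk, ← coe_minusForm]
  exact rigid_model (minusModel k a b) (isotropicNondeg_hypTower (nondeg_binQ hab) k)

end Cfsg.Agent.Lib.FixSylow.Orthogonal
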