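import Mathlib
import Cfsg.Agent.Lib.Suzuki.Simple
import Cfsg.Agent.Lib.SuzukiSp4.Iso
import Cfsg.Agent.Lib.FixSylow.Lines

/-!
The Suzuki groups: the translations are transitive on the points of the ovoid other than the point at infinity.
-/

set_option autoImplicit false

namespace Cfsg.Agent.Lib.FixSylow

open Cfsg.Agent.Lib.Suzuki

variable {F : Type*} [Field F] [Fintype F] {m : ℕ}

theorem rigid_sz (h : Hyp F m) : Rigid 2 ↥(Cfsg.Lie.Sz F (2 ^ (m + 1))) := by
  haveI : Fact (Nat.Prime 2) := ⟨Nat.prime_two⟩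
  haveI : IsSimpleGroup (Cfsg.Sz F m) := isSimpleGroup_Sz h
  have hne : ovAff m (0 : F) 0 ≠ ovInf F m := ovAff_ne_inf 0 0
  have htr := isPretransitive_ovoid h
  have hR : IsPGroup 2 (transl h) :=
    IsPGroup.of_card (n := (2 * m + 1) * 2) (by rw [card_transl, pow_mul, ← h.hF])
  refine Rigid.of_equiv (G := Cfsg.Sz F m) ?_ (SuzukiSp4.szEquiv h).symm
  refine rigid_of_self (MonoidHom.id (Cfsg.Sz F m)) Function.surjective_id (ovInf F m)
    (fun x => MulAction.exists_smul_eq _ (ovInf F m) x) (transl h) hR ?_ (fun x y => x ≠ y)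
    (fun g x y hxy e => hxy (smul_left_cancel g e)) (ovAff m (0 : F) 0) ?_ ?_ ?_ ⟨_, hne⟩
  · intro g
    constructor
    · intro hg r hr
      obtain ⟨a, b, rfl⟩ := hr
      obtain ⟨c, d, u, rfl⟩ := eq_szT_szH_of_fix h hg
      refine ⟨_, ?_, rfl⟩
      rw [show szT h c d * szH h u * szT h a b * (szT h c d * szH h u)⁻¹ =
        szT h c d * (szH h u * szT h a b * (szH h u)⁻¹) * (szT h c d)⁻¹ by group]
      refine mul_mem (mul_mem (szT_mem_transl h _ _) ?_) (inv_mem (szT_mem_transl h _ _))
      rw [szH_mul_szT, mul_inv_cancel_right]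
      exact szT_mem_transl h _ _
    · intro hg
      obtain ⟨r, hr, e⟩ := hg _ (szT_mem_transl h 1 0)
      simp only [MonoidHom.id_apply] at e
      have h1 : r • ovInf F m = ovInf F m := transl_le_stab h hr
      rw [← e, mul_smul, mul_smul] at h1
      have h2 : szT h 1 0 • (g⁻¹ • ovInf F m) = g⁻¹ • ovInf F m := eq_inv_smul_iff.2 h1
      rcases ovPt_cases (g⁻¹ • ovInf F m) with he | ⟨x, y, he⟩
      · exact (inv_smul_eq_iff.1 he).symm
      · rw [he, szT_aff] at h2
        have h3 := (ovAff_injective h2).1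
        exact absurd h3 (by simp)
  · intro y
    constructor
    · intro hy
      rcases ovPt_cases y with rfl | ⟨a, b, rfl⟩
      · exact absurd rfl hy
      · exact ⟨szT h a b, szT_mem_transl h a b, szT_zero_pt h a b⟩
    · rintro ⟨r, hr, rfl⟩ e
      exact hne (smul_left_cancel r (e.symm.trans (transl_le_stab h hr).symm))
  · intro y hy e
    subst e
    have h1 : Subsingleton (MulAction.orbit (transl h) (ovInf F m)) := by
      refine ⟨fun a b => Subtype.ext ?_⟩
      obtain ⟨ra, ha⟩ := a.2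
      obtain ⟨rb, hb⟩ := b.2
      rw [← ha, ← hb]
      exact (transl_le_stab h ra.2).trans (transl_le_stab h rb.2).symm
    have h2 : Nontrivial (MulAction.orbit (transl h) (ovAff m (0 : F) 0)) := by
      refine ⟨⟨⟨_, MulAction.mem_orbit_self _⟩,
        ⟨_, MulAction.mem_orbit _ (⟨_, szT_mem_transl h 1 0⟩ : transl h)⟩, fun e => ?_⟩⟩
      have e' : ovAff m (0 : F) 0 = szT h 1 0 • ovAff m (0 : F) 0 := congrArg Subtype.val e
      rw [szT_zero_pt] at e'
      exact zero_ne_one (ovAff_injective e').1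
    have := (Finite.one_lt_card_iff_nontrivial.2 h2).trans_le hy
    exact absurd this (not_lt.2 (Finite.card_le_one_iff_subsingleton.2 h1))
  · intro x x' hxx
    by_cases hx : x = ovInf F m
    · by_cases hx' : x' = ovInf F m
      · rw [hx, hx']
      · by_contra hne'
        exact (hxx x' (Ne.symm hx')).1 hne' rfl
    · by_contra hne'
      exact (hxx x (Ne.symm hx)).2 (Ne.symm hne') rfl

end Cfsg.Agent.Lib.FixSylow
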