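import Mathlib
import Cfsg.Agent.Lib.FixSylow.Lines
import Cfsg.Agent.Lib.Classical.Symplectic
import Cfsg.Prelude.Def_Classical

/-!
The projective symplectic groups: points.
-/

set_option autoImplicit false

namespace Cfsg.Agent.Lib.FixSylow.Symplectic

open Cfsg.Agent.Lib.Classical

variable {F : Type*} [Field F] {V : Type*} [AddCommGroup V] [Module F V] {B : V →ₗ[F] V →ₗ[F] F}

/-- All points. -/
noncomputable def pts (B : V →ₗ[F] V →ₗ[F] F) : LineData F (F × F × V) (sympIso (altExt B)) where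
  act := (sympIso (altExt B)).subtype
  P _ := True
  act_P _ _ _ := trivial

/-- The base vector. -/
def e0 : F × F × V := (1, 0, 0)

/-- Two points are not orthogonal. -/
def opp (x y : (pts B).Pts) : Prop := ∃ v ∈ x.1, ∃ w ∈ y.1, altExt B v w ≠ 0

theorem opp_ln {v w : F × F × V} {hv hP hw hQ} :
    opp ((pts B).ln v hv hP) ((pts B).ln w hw hQ) ↔ altExt B v w ≠ 0 := by
  refine ⟨?_, fun h => ⟨v, Submodule.mem_span_singleton_self v, w, Submodule.mem_span_singleton_self w, h⟩⟩
  rintro ⟨v', hv', w', hw', h⟩ h0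
  obtain ⟨a, rfl⟩ := Submodule.mem_span_singleton.1 hv'
  obtain ⟨b, rfl⟩ := Submodule.mem_span_singleton.1 hw'
  simp [h0] at h

theorem altExt_e0 (v : F × F × V) : altExt B e0 v = v.2.1 := by
  simp [altExt_apply, e0]

variable (B) in
/-- The root group of the base point. -/
def radical : Subgroup (sympIso (altExt B)) where
  carrier := {g | (pts B).act g e0 = e0 ∧ ∀ v : F × F × V, v.2.1 = 0 → ∃ d : F, (pts B).act g v = v + d • e0}
  one_mem' := ⟨rfl, fun v _ => ⟨0, by rw [zero_smul, add_zero]; rfl⟩⟩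
  mul_mem' := by
    rintro a b ⟨ha, ha'⟩ ⟨hb, hb'⟩
    refine ⟨by rw [map_mul, LinearEquiv.mul_apply, hb, ha], fun v hv => ?_⟩
    obtain ⟨d, hd⟩ := hb' v hv
    obtain ⟨d', hd'⟩ := ha' v hv
    exact ⟨d' + d, by rw [map_mul, LinearEquiv.mul_apply, hd, map_add, hd', map_smul, ha, add_smul, add_assoc]⟩
  inv_mem' := by
    rintro a ⟨ha, ha'⟩
    have hsymm : ∀ v, (pts B).act a⁻¹ ((pts B).act a v) = v := fun v => by
      rw [← LinearEquiv.mul_apply, ← map_mul, inv_mul_cancel, map_one]; rfl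
    have hsymm' : ∀ v, (pts B).act a ((pts B).act a⁻¹ v) = v := fun v => by
      rw [← LinearEquiv.mul_apply, ← map_mul, mul_inv_cancel, map_one]; rfl
    refine ⟨?_, fun v hv => ?_⟩
    · conv_lhs => rw [← ha]
      exact hsymm _
    · have hy : ((pts B).act a⁻¹ v).2.1 = 0 := by
        rw [← altExt_e0 (B := B)]
        have h1 : altExt B ((pts B).act a e0) ((pts B).act a ((pts B).act a⁻¹ v)) =
          altExt B e0 ((pts B).act a⁻¹ v) := a.2 _ _
        rw [hsymm', ha, altExt_e0] at h1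
        rw [← h1, hv]
      obtain ⟨d, hd⟩ := ha' _ hy
      rw [hsymm'] at hd
      exact ⟨-d, by rw [neg_smul, ← sub_eq_add_neg, eq_sub_iff_add_eq, ← hd]⟩

theorem act_snd {g : sympIso (altExt B)} (hg : (pts B).act g e0 = e0) (v : F × F × V) :
    ((pts B).act g v).2.1 = v.2.1 := by
  have h1 : altExt B ((pts B).act g e0) ((pts B).act g v) = altExt B e0 v := g.2 _ _
  rwa [hg, altExt_e0, altExt_e0] at h1

theorem shift_mem_radical (h : IsSympForm B) (w : V) (c : F) :
    (⟨altShift B w c h.alt, altShift_mem h w c⟩ : sympIso (altExt B)) ∈ radical B := by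
  refine ⟨?_, fun v hv => ⟨B w v.2.2, ?_⟩⟩
  · show altShift B w c h.alt e0 = e0
    simp [altShift_apply, e0]
  · show altShift B w c h.alt v = _
    rw [altShift_apply, hv]
    ext <;> simp [e0, hv]

theorem isPGroup_radical {p : ℕ} [Fact p.Prime] [CharP F p] : IsPGroup p (radical B) := by
  refine isPGroup_of_cube_zero (pts B).act Subtype.val_injective _ fun r hr v => ?_
  obtain ⟨d, hd⟩ := hr.2 ((pts B).act r v - v) (by
    rw [Prod.snd_sub, Prod.fst_sub, act_snd hr.1, sub_self])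
  rw [hd, add_sub_cancel_left, map_smul, hr.1]

theorem e0_ne : (e0 : F × F × V) ≠ 0 := fun h => one_ne_zero (congrArg Prod.fst h)

theorem rigid_core [Finite F] [Finite V] (h : IsSympForm B) (hV : ∃ z : V, z ≠ 0) {p : ℕ} [Fact p.Prime]
    [CharP F p] {G : Type*} [Group G] [Finite G] [IsSimpleGroup G] (π : sympIso (altExt B) →* G)
    (hπ : Function.Surjective π) (hker : π.ker ≤ Subgroup.center (sympIso (altExt B))) : Rigid p G := by
  have : Finite ((F × F × V) ≃ₗ[F] (F × F × V)) :=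
    Finite.of_injective (fun g => (g : F × F × V → F × F × V)) DFunLike.coe_injective
  set D := pts B with hD
  let x0 : D.Pts := D.ln e0 e0_ne trivial
  have hf : ((0 : F), (1 : F), (0 : V)) ≠ 0 := fun e => one_ne_zero (congrArg (fun q : F × F × V => q.2.1) e)
  let s0 : D.Pts := D.ln (0, 1, 0) hf trivial
  have hX : ∀ x, ∃ g : sympIso (altExt B), g • x0 = x := by
    intro x
    obtain ⟨v, hv, hP, rfl⟩ := D.exists_ln x
    obtain ⟨g, hg, e⟩ := exists_altMove h v hv
    exact ⟨⟨g, hg⟩, (D.smul_ln_eq_iff _).2 ⟨1, by rw [one_smul]; exact e.symm⟩⟩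
  have hfix : ∀ r ∈ radical B, r • x0 = x0 := fun r hr =>
    (D.smul_ln_eq_iff r).2 ⟨1, by rw [one_smul, hD, hr.1]⟩
  have hinv : ∀ (g : sympIso (altExt B)) v, D.act g (D.act g⁻¹ v) = v := fun g v => by
    rw [← LinearEquiv.mul_apply, ← map_mul, mul_inv_cancel, map_one]; rfl
  have hNX : ∀ g, g • x0 = x0 ↔ NormImg π (radical B) g := by
    refine normImg_iff π hker hX hfix (fun g hg r hr => ?_) fun x hx => ?_
    · obtain ⟨c, hc⟩ := (D.smul_ln_eq_iff g).1 hg
      have hc0 : c ≠ 0 := fun e => e0_ne (by rw [hc, e, zero_smul])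
      have ha : D.act g e0 = c⁻¹ • e0 := by rw [eq_inv_smul_iff₀ hc0, ← hc]
      have hi : D.act g⁻¹ e0 = c • e0 := by
        conv_lhs => rw [hc, map_smul]
        rw [← LinearEquiv.mul_apply, ← map_mul, inv_mul_cancel, map_one]; rfl
      refine ⟨?_, fun v hv => ?_⟩
      · rw [map_mul, LinearEquiv.mul_apply, map_mul, LinearEquiv.mul_apply, ← hD, hi, map_smul, hr.1,
          map_smul, ← hc]
      · have hy : (D.act g⁻¹ v).2.1 = 0 := by
          have h1 : altExt B (D.act g e0) (D.act g (D.act g⁻¹ v)) = altExt B e0 (D.act g⁻¹ v) := g.2 _ _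
          rw [hinv, ha, map_smul, LinearMap.smul_apply, altExt_e0, altExt_e0, hv, smul_zero] at h1
          exact h1.symm
        obtain ⟨d, hd⟩ := hr.2 _ hy
        refine ⟨d * c⁻¹, ?_⟩
        rw [map_mul, LinearEquiv.mul_apply, map_mul, LinearEquiv.mul_apply, ← hD, hd, map_add, hinv, map_smul,
          ha, smul_smul]
    · obtain ⟨v, hv, hP, rfl⟩ := D.exists_ln x
      have hy : v.2.1 = 0 := by
        by_contra hy
        obtain ⟨c, hc⟩ := (D.smul_ln_eq_iff _).1 (hx _ (shift_mem_radical h 0 1))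
        have h1 := congrArg (fun q : F × F × V => q.2.1) hc
        have h2 := congrArg Prod.fst hc
        simp [hD, pts, altShift_apply] at h1 h2
        rcases eq_or_ne c 1 with rfl | h3
        · exact hy (by linear_combination -h2)
        · exact h3 (mul_right_cancel₀ hy (by linear_combination -h1))
      have hz : v.2.2 = 0 := by
        by_contra hz
        obtain ⟨w, hw⟩ : ∃ w, B w v.2.2 = 1 := by
          obtain ⟨w, hw⟩ : ∃ w, B w v.2.2 ≠ 0 := by
            by_contra hne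
            push Not at hne
            exact hz (h.nondeg _ fun w => by rw [h.flip, hne, neg_zero])
          exact ⟨(B w v.2.2)⁻¹ • w, by simp [inv_mul_cancel₀ hw]⟩
        obtain ⟨c, hc⟩ := (D.smul_ln_eq_iff _).1 (hx _ (shift_mem_radical h w 0))
        have h1 := congrArg (fun q : F × F × V => q.2.2) hc
        have h2 := congrArg Prod.fst hc
        simp [hD, pts, altShift_apply, hy, hw] at h1 h2
        rcases eq_or_ne c 1 with rfl | h3
        · simp at h2
        · refine hz ((smul_eq_zero.1 (show (c - 1) • v.2.2 = 0 from ?_)).resolve_left (sub_ne_zero.2 h3))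
          rw [sub_smul, one_smul, ← h1, sub_self]
      have hx1 : v.1 ≠ 0 := fun e => hv (Prod.ext e (Prod.ext hy hz))
      exact (D.ln_eq_iff).2 ⟨v.1⁻¹, by ext <;> simp [e0, hy, hz, inv_mul_cancel₀ hx1]⟩
  refine rigid_of_self π hπ x0 hX (radical B) isPGroup_radical hNX opp ?_ s0 ?_ ?_ ?_ ?_
  · intro g x y hxy
    obtain ⟨v, hv, hP, rfl⟩ := D.exists_ln x
    obtain ⟨w, hw, hQ, rfl⟩ := D.exists_ln y
    rw [D.smul_ln, D.smul_ln, opp_ln]
    intro e
    refine opp_ln.1 hxy ?_
    rw [← e]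
    exact (g.2 v w).symm
  · intro y
    obtain ⟨w, hw, hQ, rfl⟩ := D.exists_ln y
    refine opp_ln.trans ⟨fun hy => ?_, ?_⟩
    · rw [altExt_e0] at hy
      refine ⟨_, shift_mem_radical h (w.2.1⁻¹ • w.2.2) (w.2.1⁻¹ * w.1), (D.smul_ln_eq_iff _).2 ⟨w.2.1, ?_⟩⟩
      show w = w.2.1 • altShift B _ _ h.alt (0, 1, 0)
      rw [altShift_apply]
      ext <;> simp [mul_inv_cancel_left₀ hy, smul_inv_smul₀ hy]
    · rintro ⟨r, hr, e⟩
      obtain ⟨c, hc⟩ := (D.smul_ln_eq_iff r).1 e
      have hy := act_snd hr.1 ((0, 1, 0) : F × F × V)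
      rw [← hD] at hy
      rw [altExt_e0, hc, Prod.smul_snd, Prod.smul_fst, hy, smul_eq_mul, mul_one]
      exact fun e' => hw (by rw [hc, e', zero_smul])
  · intro y hy
    obtain ⟨w, hw, hQ, rfl⟩ := D.exists_ln y
    by_contra hop
    replace hop : w.2.1 = 0 := by
      by_contra h0
      exact hop (opp_ln.2 (by rwa [altExt_e0]))
    refine absurd hy (not_le.2 (card_orbit_lt (Z := F) (Z' := F × V) (fun x : D.Pts => x.1) Subtype.val_injective
      (fun t => F ∙ (w + t • e0)) ?_ (fun q => D.ln (q.1, 1, q.2)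
        (fun e => one_ne_zero (congrArg (fun q : F × F × V => q.2.1) e)) trivial) ?_ ?_ ?_))
    · intro r hr
      obtain ⟨d, hd⟩ := hr.2 w hop
      refine ⟨d, ?_⟩
      rw [D.smul_ln]
      show (F ∙ D.act r w) = _
      rw [hd]
    · rintro ⟨c, z⟩
      refine ⟨⟨_, shift_mem_radical h z c⟩, (D.smul_ln_eq_iff _).2 ⟨1, ?_⟩⟩
      show _ = (1 : F) • altShift B z c h.alt (0, 1, 0)
      rw [altShift_apply]
      ext <;> simp
    · rintro ⟨c, z⟩ ⟨c', z'⟩ e
      obtain ⟨k, hk⟩ := (D.ln_eq_iff).1 e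
      have h1 := congrArg (fun q : F × F × V => q.2.1) hk
      simp at h1
      rw [← h1, one_smul] at hk
      exact Prod.ext (congrArg Prod.fst hk).symm (congrArg (fun q : F × F × V => q.2.2) hk).symm
    · rw [Nat.card_prod]
      obtain ⟨z, hz⟩ := hV
      have : Nontrivial V := ⟨⟨z, 0, hz⟩⟩
      have h1 := Finite.one_lt_card (α := V)
      have h2 := Nat.card_pos (α := F)
      nlinarith
  · intro x x' hxx
    obtain ⟨v, hv, hP, rfl⟩ := D.exists_ln x
    obtain ⟨w, hw, hQ, rfl⟩ := D.exists_ln x'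
    have hne : altExt B v ≠ 0 := fun e => hv (h.ext.nondeg v fun u => by rw [e]; rfl)
    obtain ⟨c, hc⟩ := proportional_of_zeros (φ := altExt B v) (φ' := altExt B w)
      (ψ := altExt B e0) (u0 := (0, 1, 0)) (by rw [altExt_e0]) (fun u hu => by
        have hu0 : u ≠ 0 := fun e => one_ne_zero (by rw [← hu, e, map_zero])
        have := hxx (D.ln u hu0 trivial) (opp_ln.2 (by rw [hu]; exact one_ne_zero))
        exact not_iff_not.1 (opp_ln.symm.trans (this.trans opp_ln))) hne
    refine (D.ln_eq_iff).2 ⟨c, sub_eq_zero.1 (h.ext.nondeg _ fun u => ?_)⟩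
    rw [map_sub, map_smul, hc, sub_self]
    rfl
  · refine ⟨s0, fun e => ?_⟩
    obtain ⟨c, hc⟩ := (D.ln_eq_iff).1 e
    have := congrArg Prod.fst hc
    simp [e0] at this

theorem rigid (F : Type) [Field F] [Fintype F] {p : ℕ} [Fact p.Prime] [CharP F p] (m : ℕ) (hm : 2 ≤ m)
    [IsSimpleGroup (Cfsg.PSp m F)] : Rigid p (Cfsg.PSp m F) := by
  obtain ⟨k, rfl⟩ : ∃ k, m = k + 1 := ⟨m - 1, by omega⟩
  let e : sympIso (altExt (stdSymp (F := F) k)) ≃* Matrix.symplecticGroup (Fin (k + 1)) F :=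
    ((biIsoGroupCongr (B := sympFn (k + 1) F) (B' := fun p q => altExt (stdSymp k) p q) (sympSucc k) 1
      (fun u v => by rw [Units.val_one, one_mul, sympSucc_spec, stdSymp_apply])).symm).trans
      (symplecticGroupEquiv (k + 1)).symm
  have hV : ∃ z : Fin k ⊕ Fin k → F, z ≠ 0 := ⟨fun _ => 1, fun h => by
    have := congrFun h (Sum.inl ⟨0, by omega⟩)
    simp at this⟩
  refine rigid_core (isSympForm_std k) hV
    ((QuotientGroup.mk' (Subgroup.center (Matrix.symplecticGroup (Fin (k + 1)) F))).comp e.toMonoidHom)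
    ((QuotientGroup.mk'_surjective _).comp e.surjective) fun z hz => ?_
  rw [MonoidHom.mem_ker, MonoidHom.comp_apply, QuotientGroup.mk'_apply, QuotientGroup.eq_one_iff] at hz
  exact Subgroup.mem_center_iff.2 fun g => e.injective (by
    rw [map_mul, map_mul]
    exact Subgroup.mem_center_iff.1 hz _)

end Cfsg.Agent.Lib.FixSylow.Symplectic
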