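import Mathlib
import Cfsg.Agent.Lib.Chev.ParabolicFStar
import Cfsg.Agent.Lib.Twisted.Core.Simple
import Cfsg.Agent.Lib.Twisted.Core.D4Group
import Cfsg.Agent.Lib.Twisted.Core.E6Group
import Cfsg.Agent.Lib.Twisted.Ree.F4Sys
import Cfsg.Agent.Lib.Twisted.Ree.G2Sys
import Cfsg.Agent.Lib.FixSylow.BN

/-!
The twisted groups: in the split pair of a twisted group, the two orbit elements are separated by a root element
with a nonzero fundamental coordinate.
-/

set_option autoImplicit false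

namespace Cfsg.Agent.Lib.FixSylow

open Cfsg.Lie Cfsg.Agent.Lib.Chev Cfsg.Agent.Lib.Twisted Cfsg.Agent.Lib.Twisted.Core

variable {D : ChevalleyDatum} {C : Cert} {F : Type*} [Field F] {T : Twist D C F} {ι : Type}
  (S : OrbitSys T ι)

theorem sdiff_le_normalizer (hh : Rooted D C) {i : ℕ} (hi : i < D.rank) :
    D.borelSubgroup F ≤ Subgroup.normalizer (rootGen D F (posSet D \ {D.simple i}) : Set (GL D.Idx F)) := by
  have h := hh.toChecked
  refine hh.borel_le_normalizer_of_up Set.sdiff_subset fun r hr a ha c hc => ?_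
  have h1 : ht D C (D.simple i) = 1 := by
    rw [ht, Finset.sum_eq_single i]
    · rw [(h.simple_tab hi hi).2.1, if_pos rfl]
    · intro l hl hne
      rw [(h.simple_tab hi (Finset.mem_range.1 hl)).2.1, if_neg (Ne.symm hne)]
    · exact fun hn => absurd (Finset.mem_range.2 hi) hn
  have h2 := h.ht_pos ha.1.2 ha.1.1
  obtain ⟨hp, hlt⟩ := hh.higher_of_cTerms (s := D.simple i) hr ha.1 (by omega) hc
  refine ⟨hp, fun e => ?_⟩
  rw [Set.mem_singleton_iff] at e
  rw [e] at hlt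
  exact lt_irrefl _ hlt

variable [Fintype F]

/-- What stays in the Borel group under the element of an orbit has trivial coordinates on the orbit. -/
theorem mem_sdiff_of_conj_mem {k : ι} {i : ℕ} (hi : i ∈ S.J k) {g : GL D.Idx F}
    (hg : g ∈ D.posUnipotent F) (hb : (S.sEl k)⁻¹ * g * S.sEl k ∈ D.borelSubgroup F) :
    g ∈ rootGen D F (posSet D \ {D.simple i}) := by
  have h := T.hh.toChecked
  have hr := Finset.mem_range.1 (S.J_lt k hi)
  obtain ⟨w0, hw0, eU, -, hneg⟩ := exists_top_fixW T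
  have hd0 : ∀ l ∈ S.J k, ¬ Asc w0 l := fun l hl hA => by
    have hr' := Finset.mem_range.1 (S.J_lt k hl)
    rw [h.asc_iff hr', hneg] at hA
    exact hA (h.sroot_pos hr')
  rw [← eU] at hg
  obtain ⟨⟨a, c⟩, e⟩ := (S.split_bijective hw0 hd0).2 ⟨g, hg⟩
  have e1 : (a : GL D.Idx F) * c = g := congrArg Subtype.val e
  have hn := S.cls_inv (S.sEl_cls k)
  have ha : (S.sEl k)⁻¹ * (a : GL D.Idx F) * ((S.sEl k)⁻¹)⁻¹ ∈ D.borelSubgroup F :=
    Subgroup.mem_sup_left (uGrp_le_pos h _ (S.conj_outGrp hn hw0 hd0 a.2))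
  have hc : (S.sEl k)⁻¹ * (c : GL D.Idx F) * ((S.sEl k)⁻¹)⁻¹ ∈ D.negUnipotent F := by
    rw [h.negUnipotent_eq]
    refine hn.conj_rootGen (S := Fin.val '' _) (image_val_lt _) ?_ c.2
    rintro r ⟨r', hr', er⟩
    obtain rfl : r' = r := Fin.ext er
    exact not_le.1 (h.mem_invs.1 hr').2
  have hcb : (S.sEl k)⁻¹ * (c : GL D.Idx F) * ((S.sEl k)⁻¹)⁻¹ ∈ D.borelSubgroup F := by
    have := (D.borelSubgroup F).mul_mem ((D.borelSubgroup F).inv_mem ha) hb
    convert this using 1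
    rw [← e1]
    group
  have hc1 : (c : GL D.Idx F) = 1 :=
    conj_eq_one_iff.1 (Subgroup.mem_bot.1 (T.hh.borel_inf_negUnipotent.le ⟨hcb, hc⟩))
  rw [← e1, hc1, mul_one]
  refine rootGen_mono ?_ a.2
  rintro _ ⟨r, hr', rfl⟩
  rw [Finset.mem_coe, Finset.mem_sdiff] at hr'
  refine ⟨⟨(h.mem_invs.1 hr'.1).1, r.2⟩, fun e2 => hr'.2 ?_⟩
  rw [Set.mem_singleton_iff] at e2
  rw [show r = h.sroot hr from Fin.ext e2]
  exact (S.mem_invs_wJ k).2 ⟨h.sroot_pos hr, h.supp_simple hr hi⟩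

theorem orbit_disjoint {j k : ι} {i : ℕ} (hj : i ∈ S.J j) (hk : i ∈ S.J k) : j = k := by
  have hit : ∀ l : ι, ∀ n : ℕ, i ∈ S.J l → T.node^[n] i ∈ S.J l := by
    intro l n hl
    induction n with
    | zero => exact hl
    | succ n ih => rw [Function.iterate_succ_apply']; exact S.J_node l _ ih
  refine S.J_inj (Finset.ext fun i' => ⟨fun h' => ?_, fun h' => ?_⟩)
  · obtain ⟨n, rfl⟩ := S.J_trans j i hj i' h'
    exact hit k n hk
  · obtain ⟨n, rfl⟩ := S.J_trans k i hk i' h'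
    exact hit j n hj

/-- An element with a nonzero coordinate on the orbit `k` which the element of the orbit `j` keeps positive. -/
theorem exists_separating (hlead : HasLead S) {j k : ι} (hjk : j ≠ k) :
    ∃ x ∈ D.posUnipotent F ⊓ S.G, (S.sEl j)⁻¹ * x * S.sEl j ∈ D.borelSubgroup F ∧
      ∀ u ∈ D.posUnipotent F, (S.sEl k)⁻¹ * (u⁻¹ * x * u) * S.sEl k ∉ D.borelSubgroup F := by
  have h := T.hh.toChecked
  obtain ⟨i, hi⟩ := S.J_nonempty k
  have hr := Finset.mem_range.1 (S.J_lt k hi)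
  obtain ⟨t, ht, a0, ha0, hmem⟩ := hlead i hr
  have hpos : xGL h F (h.simple_lt hr) t * a0 ∈ D.posUnipotent F := by
    rw [h.posUnipotent_eq]
    exact mul_mem (mem_rootGen (r := D.simple i) ⟨(h.simple_spec hr).2, h.simple_lt hr⟩ rfl)
      (rootGen_mono Set.sdiff_subset ha0)
  obtain ⟨w0, hw0, eU, -, hneg⟩ := exists_top_fixW T
  have hd0 : ∀ l ∈ S.J j, ¬ Asc w0 l := fun l hl hA => by
    have hr' := Finset.mem_range.1 (S.J_lt j hl)
    rw [h.asc_iff hr', hneg] at hA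
    exact hA (h.sroot_pos hr')
  obtain ⟨⟨a, c⟩, e⟩ := (S.split_bijective hw0 hd0).2 ⟨_, eU.symm ▸ hpos⟩
  have e1 : (a : GL D.Idx F) * c = xGL h F (h.simple_lt hr) t * a0 := congrArg Subtype.val e
  have hc : (c : GL D.Idx F) ∈ D.group F := uGrp_le_group T.hh _ c.2
  have ha : (a : GL D.Idx F) ∈ D.group F := S.outGrp_le_group _ _ a.2
  have e2 := (S.split_bijective hw0 hd0).1
    (a₁ := (⟨T.sig a, S.sig_outGrp hw0 a.2⟩, ⟨T.sig c, OrbitSys.sig_uGrp_fix (S.wJ_fixW j) c.2⟩)) (a₂ := (a, c))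
    (Subtype.ext (by
      show T.sig (a : GL D.Idx F) * T.sig c = a * c
      rw [← T.sig_mul ha hc, e1, T.sig_fixed (S.G_le hmem)]))
  simp only [Prod.mk.injEq, Subtype.ext_iff] at e2
  have haU : (a : GL D.Idx F) ∈ D.posUnipotent F := eU ▸ S.outGrp_le a.2
  have haf : (a : GL D.Idx F) ∈ T.fixedGroup := T.mem_fixedGroup.2 ⟨ha, e2.1⟩
  refine ⟨a, ⟨haU, S.pos_fixed_le ⟨haU, haf⟩⟩, ?_, fun u hu hcon => ?_⟩
  · have := uGrp_le_pos h _ (S.conj_outGrp (S.cls_inv (S.sEl_cls j)) hw0 hd0 a.2)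
    rw [inv_inv] at this
    exact Subgroup.mem_sup_left this
  · set Q := rootGen D F (posSet D \ {D.simple i}) with hQ
    have h1 : u⁻¹ * (a : GL D.Idx F) * u ∈ Q :=
      mem_sdiff_of_conj_mem S hi (mul_mem (mul_mem (inv_mem hu) haU) hu) hcon
    have h2 : (a : GL D.Idx F) ∈ Q := by
      have := (Subgroup.mem_normalizer_iff.1 (sdiff_le_normalizer (F := F) T.hh hr
        (Subgroup.mem_sup_left hu)) _).1 h1
      simpa [mul_assoc] using this
    have h3 : (c : GL D.Idx F) ∈ Q := by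
      refine rootGen_mono ?_ c.2
      rintro _ ⟨r, hr', rfl⟩
      rw [Finset.mem_coe, S.mem_invs_wJ] at hr'
      refine ⟨⟨hr'.1, r.2⟩, fun e3 => ?_⟩
      rw [Set.mem_singleton_iff] at e3
      have h5 := hr'.2 i hr (fun hij => hjk (orbit_disjoint S hij hi))
      rw [e3, (h.simple_tab hr hr).2.1, if_pos rfl] at h5
      exact one_ne_zero h5
    refine ht (OrbitSys.not_mem_simple_sdiff T.hh hr (t := t) ?_)
    have := Q.mul_mem (Q.mul_mem h2 h3) (Q.inv_mem ha0)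
    rwa [e1, mul_inv_cancel_right] at this

theorem rigid_orbitSys {p : ℕ} [Fact p.Prime] [CharP F p] (hlead : HasLead S) : Rigid p ↥S.G := by
  have h := T.hh.toChecked
  set U : Subgroup ↥S.G := (D.posUnipotent F).subgroupOf S.G with hUdef
  have hUp : IsPGroup p ↥(D.posUnipotent F) := by
    obtain ⟨k, -, hk⟩ := FiniteField.card F p
    exact IsPGroup.of_card (n := (k : ℕ) * (D.nroots / 2)) (by rw [T.hh.card_posUnipotent, hk, ← pow_mul])
  have hU : IsPGroup p ↥U := hUp.comap_of_injective S.G.subtype S.G.subtype_injective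
  refine rigid_of_pgroup U hU fun α hα hfix => ?_
  refine eq_one_of_bn S.bnPair (S.normalCore_eq_bot hlead) U hU ?_ ?_ ?_ ?_ ?_ α hα hfix
  · intro x hx
    exact Subgroup.mem_subgroupOf.2 ⟨Subgroup.mem_sup_left hx, x.2⟩
  · intro b hb
    have hb' := Subgroup.mem_subgroupOf.1 hb
    obtain ⟨u, hu, t, ht, e⟩ := OrbitSys.borel_fixed_split (T := T) hb'.1 (S.G_le hb'.2)
    have htG : t ∈ S.G := S.torus ht
    refine ⟨⟨u, S.pos_fixed_le hu⟩, hu.1, ⟨t, htG⟩, ⟨?_, ?_⟩, Subtype.ext e⟩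
    · exact Subgroup.mem_subgroupOf.2 ⟨Subgroup.mem_sup_right ht.1, htG⟩
    · exact Subgroup.mem_subgroupOf.2 ⟨Subgroup.mem_sup_left ht.1, htG⟩
  · intro b hb
    have hb' : (b : GL D.Idx F) ∈ Subgroup.normalizer (D.posUnipotent F : Set (GL D.Idx F)) :=
      (sup_le Subgroup.le_normalizer T.hh.diagonal_le_normalizer_posUnipotent)
        (Subgroup.mem_subgroupOf.1 hb).1
    refine Subgroup.mem_normalizer_iff.2 fun x => ?_
    rw [Subgroup.mem_subgroupOf, Subgroup.mem_subgroupOf]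
    simpa using Subgroup.mem_normalizer_iff.1 hb' (x : GL D.Idx F)
  · rintro _ ⟨k, rfl⟩
    obtain ⟨i, hi⟩ := S.J_nonempty k
    have hr := Finset.mem_range.1 (S.J_lt k hi)
    obtain ⟨t, ht, a0, ha0, hmem⟩ := hlead i hr
    have hpos : xGL h F (h.simple_lt hr) t * a0 ∈ D.posUnipotent F := by
      rw [h.posUnipotent_eq]
      exact mul_mem (mem_rootGen (r := D.simple i) ⟨(h.simple_spec hr).2, h.simple_lt hr⟩ rfl)
        (rootGen_mono Set.sdiff_subset ha0)
    refine ⟨⟨_, hmem⟩, hpos, fun hcon => ht ?_⟩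
    have h1 := (Subgroup.mem_subgroupOf.1 hcon).1
    simp only [Subgroup.coe_mul, Subgroup.coe_inv] at h1
    refine OrbitSys.not_mem_simple_sdiff T.hh hr (t := t) ?_
    have := mul_mem (mem_sdiff_of_conj_mem S hi hpos h1) (inv_mem ha0)
    rwa [mul_inv_cancel_right] at this
  · rintro _ ⟨j, rfl⟩ _ ⟨k, rfl⟩ hjk u hu
    obtain ⟨x, hx, h1, h2⟩ := exists_separating S hlead (j := j) (k := k) (by rintro rfl; exact hjk rfl)
    refine ⟨⟨x, hx.2⟩, hx.1, ?_, fun hcon => h2 u hu ?_⟩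
    · refine Subgroup.mem_subgroupOf.2 ⟨?_, Subtype.coe_prop _⟩
      simp only [Subgroup.coe_mul, Subgroup.coe_inv]
      exact h1
    · have h3 := (Subgroup.mem_subgroupOf.1 hcon).1
      simp only [Subgroup.coe_mul, Subgroup.coe_inv] at h3
      rw [show (S.sEl k)⁻¹ * ((u : GL D.Idx F)⁻¹ * x * u) * S.sEl k =
        ((u : GL D.Idx F) * S.sEl k)⁻¹ * x * ((u : GL D.Idx F) * S.sEl k) by group]
      exact h3

theorem rigid_twistedD4 {K : Type*} [Field K] [Fintype K] {p : ℕ} [Fact p.Prime] [CharP K p] {q : ℕ}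
    (hq : IsPrimePow q) (hK : Fintype.card K = q ^ 3) : Rigid p ↥(twistedD4 K q) := by
  obtain ⟨φ, hφ, h3⟩ := d4_powAut hq hK
  exact rigid_orbitSys (d4Orbits hq hK φ hφ h3).system (Orbits.hasLead _)

theorem rigid_twistedE6 {K : Type*} [Field K] [Fintype K] {p : ℕ} [Fact p.Prime] [CharP K p] {q : ℕ}
    (hq : IsPrimePow q) (hK : Fintype.card K = q ^ 2) : Rigid p ↥(twistedE6 K q) := by
  obtain ⟨φ, hφ, h2⟩ := e6_powAut hq hK
  exact rigid_orbitSys (e6Orbits hq hK φ hφ h2).system (Orbits.hasLead _)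

theorem rigid_twistedF4 {K : Type*} [Field K] [Fintype K] {m : ℕ}
    (hK : Fintype.card K = 2 ^ (2 * m + 1)) : Rigid 2 ↥(twistedF4 K (2 ^ m)) := by
  haveI : Fact (Nat.Prime 2) := ⟨Nat.prime_two⟩
  haveI : CharP K 2 := charP_of_card_eq_prime_pow hK
  have he := ReeF.pow_theta hK
  obtain ⟨σ, hσ⟩ := ReeF.exists_sigma hK
  exact rigid_orbitSys (ReeF.orbitSys hσ he) (ReeF.hasLead hσ he)

theorem rigid_twistedG2 {K : Type*} [Field K] [Fintype K] {m : ℕ}
    (hK : Fintype.card K = 3 ^ (2 * m + 1)) : Rigid 3 ↥(twistedG2 K (3 ^ m)) := by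
  haveI : Fact (Nat.Prime 3) := ⟨Nat.prime_three⟩
  haveI := ReeG.charP_of_card hK
  have he := ReeG.pow_theta hK
  obtain ⟨σ, hσ⟩ := ReeG.exists_sigma hK
  obtain ⟨k, hk⟩ := ReeG.card_units_eq hK
  exact rigid_orbitSys (ReeG.orbitSys hσ he hk) (ReeG.hasLead hσ he hk)

end Cfsg.Agent.Lib.FixSylow
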