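import Mathlib
import Cfsg.Agent.Lib.FixSylow.Polar
import Cfsg.Agent.Lib.Classical.UnitaryStandard

/-!
The projective unitary groups: isotropic points.
-/

set_option autoImplicit false

namespace Cfsg.Agent.Lib.FixSylow.Unitary

open Cfsg.Agent.Lib.Classical

variable {F : Type*} [Field F] {σ : F →+* F} {V : Type*} [AddCommGroup V] [Module F V] {B : V → V → F}

/-- The isotropic points. -/
noncomputable def iso (h : HermSpace σ B) : PolarData F (F × F × V) (uGroup h.ext) where
  act := (uGroup h.ext).subtype
  P v := uExt σ B v v = 0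
  act_P g v hv := by
    show uExt σ B (g.1 v) (g.1 v) = 0
    rw [uGroup_le h.ext g.2 v v, hv]
  ω := uExt σ B
  σ := σ
  e0 := (1, 0, 0)
  e0_ne h := one_ne_zero (congrArg Prod.fst h)
  P_e0 := by simp [uExt, h.zero_left]
  P_smul c v hv := by rw [h.ext.smul_left, h.ext.smul_right, hv, mul_zero, mul_zero]
  psi := (LinearMap.fst F F V).comp (LinearMap.snd F F (F × V))
  omega_e0 v := by simp [uExt, h.zero_left]
  omega_smul a b v w := by rw [h.ext.smul_left, h.ext.smul_right, mul_assoc]
  omega_act g v w := uGroup_le h.ext g.2 v w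

theorem uT_mem_radical (h : HermSpace σ B) (w : V) (c : F) (hc : c + σ c + B w w = 0) :
    (⟨uT h w c hc, uT_mem h w c hc⟩ : uGroup h.ext) ∈ (iso h).radical := by
  refine ⟨?_, fun v hv => ⟨-B v.2.2 w, ?_⟩⟩
  · show uT h w c hc (1, 0, 0) = (1, 0, 0)
    simp [uT_apply, h.zero_left]
  · replace hv : v.2.1 = 0 := hv
    show uT h w c hc v = v + _ • ((1 : F), (0 : F), (0 : V))
    rw [uT_apply, hv]
    ext <;> simp [hv, sub_eq_add_neg]

theorem rigid_core [Finite F] [Finite V] (h : HermSpace σ B) (hV : ∃ z : V, z ≠ 0) {p : ℕ} [Fact p.Prime]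
    [CharP F p] {G : Type*} [Group G] [Finite G] [IsSimpleGroup G] (π : uGroup h.ext →* G)
    (hπ : Function.Surjective π) (hker : π.ker ≤ Subgroup.center (uGroup h.ext)) : Rigid p G := by
  have : Finite ((F × F × V) ≃ₗ[F] (F × F × V)) :=
    Finite.of_injective (fun g => (g : F × F × V → F × F × V)) DFunLike.coe_injective
  obtain ⟨d0, hd0, hd0'⟩ := h.exists_skew
  refine (iso h).rigid Subtype.val_injective (fun v hv hP => ?_) (fun v hv hP hfix => ?_)
    (0, 1, 0) (by simp [iso, uExt, h.zero_left]) rfl (fun v hP hv => ?_) ?_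
    (fun v w hv hP hw hQ huv => ?_) π hπ hker
  · obtain ⟨g, hg, x, hx, e⟩ := exists_uGroup_line h v hP hv
    refine ⟨⟨g⁻¹, inv_mem hg⟩, x, ?_⟩
    show v = x • g⁻¹ ((1 : F), (0 : F), (0 : V))
    rw [← map_smul, ← e]
    exact (g.symm_apply_apply v).symm
  · have hy : v.2.1 = 0 := by
      by_contra hy
      obtain ⟨c, hc⟩ := hfix _ (uT_mem_radical h 0 d0 (skew_fill h hd0'))
      have h1 := congrArg (fun q : F × F × V => q.2.1) hc
      have h2 := congrArg Prod.fst hc
      simp [iso, uT_apply, h.zero_right] at h1 h2
      rcases eq_or_ne c 1 with rfl | h3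
      · exact mul_ne_zero hd0 hy (by linear_combination -h2)
      · exact h3 (mul_right_cancel₀ hy (by linear_combination -h1))
    have hz : v.2.2 = 0 := by
      by_contra hz
      obtain ⟨w, hw⟩ : ∃ w, B v.2.2 w ≠ 0 := by
        by_contra hne
        push Not at hne
        exact hz (h.nondeg _ hne)
      obtain ⟨t, ht⟩ := h.exists_fill w
      obtain ⟨c, hc⟩ := hfix _ (uT_mem_radical h w t ht)
      have h1 := congrArg (fun q : F × F × V => q.2.2) hc
      have h2 := congrArg Prod.fst hc
      simp [iso, uT_apply, hy] at h1 h2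
      rcases eq_or_ne c 1 with rfl | h3
      · exact hw (by linear_combination h2)
      · refine hz ((smul_eq_zero.1 (show (c - 1) • v.2.2 = 0 from ?_)).resolve_left (sub_ne_zero.2 h3))
        rw [sub_smul, one_smul, ← h1, sub_self]
    have hx : v.1 ≠ 0 := fun e' => hv (Prod.ext e' (Prod.ext hy hz))
    exact ⟨v.1⁻¹, by ext <;> simp [iso, hy, hz, inv_mul_cancel₀ hx]⟩
  · replace hv : v.2.1 = 1 := hv
    replace hP : uExt σ B v v = 0 := hP
    have hc : v.1 + σ v.1 + B v.2.2 v.2.2 = 0 := by
      rw [uExt, hv, map_one] at hP; linear_combination hP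
    refine ⟨_, uT_mem_radical h v.2.2 v.1 hc, ?_⟩
    show uT h v.2.2 v.1 hc (0, 1, 0) = v
    rw [uT_apply]
    ext <;> simp [hv, h.zero_left]
  · obtain ⟨z, hz⟩ := hV
    have hFV : Nat.card F ≤ Nat.card V :=
      Nat.card_le_card_of_injective (fun a : F => a • z) (smul_left_injective F hz)
    choose fill hfill using h.exists_fill
    have hle : Nat.card (V × Bool) ≤ Nat.card {v : F × F × V // (iso h).P v ∧ (iso h).psi v = 1} := by
      refine Nat.card_le_card_of_injective
        (fun q => ⟨(fill q.1 + bif q.2 then d0 else 0, 1, q.1), ?_, rfl⟩) fun a b hab => ?_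
      · show uExt σ B _ _ = 0
        have := hfill q.1
        cases q.2
        · simp [uExt]; linear_combination this
        · simp [uExt]; linear_combination this + hd0'
      · have h1 := congrArg (fun q : {v : F × F × V // (iso h).P v ∧ (iso h).psi v = 1} => q.1.2.2) hab
        have h2 := congrArg (fun q : {v : F × F × V // (iso h).P v ∧ (iso h).psi v = 1} => q.1.1) hab
        simp only at h1 h2
        rw [h1] at h2
        refine Prod.ext h1 ?_
        rcases ha : a.2 <;> rcases hb : b.2 <;> simp [ha, hb, hd0, Ne.symm hd0] at h2 ⊢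
    rw [Nat.card_prod, Nat.card_eq_fintype_card (α := Bool), Fintype.card_bool] at hle
    have := Finite.one_lt_card (α := F)
    omega
  · replace hP : uExt σ B v v = 0 := hP
    replace hQ : uExt σ B w w = 0 := hQ
    have key : ∀ t a, t + σ t + B a a = 0 →
        (v.1 + v.2.1 * σ t + B v.2.2 a = 0 ↔ w.1 + w.2.1 * σ t + B w.2.2 a = 0) := by
      intro t a hta
      have := huv (t, 1, a) (by show uExt σ B _ _ = 0; simp [uExt]; linear_combination hta) rfl
      simpa [iso, uExt] using this
    have mixed : ∀ v w : F × F × V, uExt σ B v v = 0 → v.2.1 ≠ 0 → w.2.1 = 0 →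
        (∀ t a, t + σ t + B a a = 0 →
          (v.1 + v.2.1 * σ t + B v.2.2 a = 0 ↔ w.1 + w.2.1 * σ t + B w.2.2 a = 0)) → False := by
      intro v w hP hy hy' hk
      have hys : σ v.2.1 ≠ 0 := (map_ne_zero σ).2 hy
      have hc : v.1 / v.2.1 + σ (v.1 / v.2.1) + B (v.2.1⁻¹ • v.2.2) (v.2.1⁻¹ • v.2.2) = 0 := by
        rw [uExt] at hP
        rw [h.smul_left, h.smul_right, map_div₀, map_inv₀]
        field_simp
        linear_combination hP
      have hv0 : v.1 + v.2.1 * σ (v.1 / v.2.1) + B v.2.2 (v.2.1⁻¹ • v.2.2) = 0 := by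
        rw [uExt] at hP
        rw [h.smul_right, map_div₀, map_inv₀]
        field_simp
        linear_combination hP
      have h1 := (hk _ _ hc).1 hv0
      rw [hy', zero_mul, add_zero] at h1
      have h2 := (hk (v.1 / v.2.1 + d0) (v.2.1⁻¹ • v.2.2) (by rw [map_add]; linear_combination hc + hd0')).2
        (by rw [hy', zero_mul, add_zero, h1])
      rw [map_add] at h2
      exact mul_ne_zero hy ((map_ne_zero σ).2 hd0) (by linear_combination h2 - hv0)
    by_cases hy : v.2.1 = 0
    · by_cases hy' : w.2.1 = 0
      · let φ : F × F × V → (F × V →ₗ[F] F) := fun v =>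
          { toFun := fun tw => σ v.1 * tw.1 + B tw.2 v.2.2
            map_add' := fun x y => by simp only [Prod.fst_add, Prod.snd_add, h.add_left]; ring
            map_smul' := fun a x => by
              simp only [Prod.smul_fst, Prod.smul_snd, smul_eq_mul, h.smul_left, RingHom.id_apply]; ring }
        have hφ : ∀ u tw, φ u tw = σ u.1 * tw.1 + B tw.2 u.2.2 := fun u tw => rfl
        have hkey : ∀ a, φ v (1, a) = 0 ↔ φ w (1, a) = 0 := by
          intro a
          obtain ⟨t, ht⟩ := h.exists_fill a
          have := key t a ht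
          rw [hy, hy', zero_mul, add_zero, add_zero, ← map_eq_zero_iff _ σ.injective, map_add, h.symm,
            ← map_eq_zero_iff _ σ.injective (x := w.1 + _), map_add, h.symm] at this
          simpa [hφ] using this
        obtain ⟨c, hc⟩ := proportional_of_zeros (φ := φ v) (φ' := φ w) (ψ := LinearMap.fst F F V)
          (u0 := (1, 0)) rfl (fun u hu => by
            simp only [LinearMap.fst_apply] at hu
            rw [show u = (1, u.2) from Prod.ext hu rfl]
            exact hkey u.2) (fun e0 => hv (by
            have hx : σ v.1 = 0 := by simpa [hφ, h.zero_left] using LinearMap.congr_fun e0 (1, 0)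
            refine Prod.ext ((map_eq_zero σ).1 hx) (Prod.ext hy (h.nondeg _ fun z => ?_))
            have := LinearMap.congr_fun e0 (0, z)
            simp only [hφ, mul_zero, zero_add, LinearMap.zero_apply] at this
            rw [← h.symm, this, map_zero]))
        refine ⟨σ c, Prod.ext ?_ (Prod.ext ?_ ?_)⟩
        · apply σ.injective
          simpa [hφ, h.zero_left, h.invol] using LinearMap.congr_fun hc (1, 0)
        · simp [hy, hy']
        · refine sub_eq_zero.1 (h.nondeg _ fun z => ?_)
          have := congrArg σ (LinearMap.congr_fun hc (0, z))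
          simp only [hφ, LinearMap.smul_apply, mul_zero, zero_add, smul_eq_mul, map_mul, h.symm] at this
          rw [h.sub_left, Prod.smul_snd, Prod.smul_snd, h.smul_left, this, sub_self]
      · exact (mixed w v hQ hy' hy fun t a hta => (key t a hta).symm).elim
    · by_cases hy' : w.2.1 = 0
      · exact (mixed v w hP hy hy' key).elim
      · set a := v.2.1⁻¹ • v.2.2 with ha
        set b := w.2.1⁻¹ • w.2.2 with hb
        set c := v.1 / v.2.1 with hc
        set c' := w.1 / w.2.1 with hc'
        have norm : ∀ v : F × F × V, uExt σ B v v = 0 → v.2.1 ≠ 0 →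
            v.1 / v.2.1 + σ (v.1 / v.2.1) + B (v.2.1⁻¹ • v.2.2) (v.2.1⁻¹ • v.2.2) = 0 ∧
            ∀ t z, v.1 + v.2.1 * σ t + B v.2.2 z =
              v.2.1 * (v.1 / v.2.1 + σ t + B (v.2.1⁻¹ • v.2.2) z) := by
          intro v hP hy
          have hys : σ v.2.1 ≠ 0 := (map_ne_zero σ).2 hy
          refine ⟨?_, fun t z => ?_⟩
          · rw [uExt] at hP
            rw [h.smul_left, h.smul_right, map_div₀, map_inv₀]
            field_simp
            linear_combination hP
          · rw [h.smul_left]
            field_simp
        obtain ⟨hs, hn⟩ := norm v hP hy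
        obtain ⟨hs', hn'⟩ := norm w hQ hy'
        rw [← hc, ← ha] at hs hn
        rw [← hc', ← hb] at hs' hn'
        have hk : ∀ t z, t + σ t + B z z = 0 → c + σ t + B a z = 0 → c' + σ t + B b z = 0 := by
          intro t z htz e
          have := (key t z htz).1 (by rw [hn, e, mul_zero])
          rw [hn', mul_eq_zero] at this
          exact this.resolve_left hy'
        have h1 := hk c a hs hs
        have hdd : B (b - a) (b - a) = 0 := by
          have h2 := congrArg σ h1
          simp only [map_add, h.invol, h.symm, map_zero] at h2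
          simp only [h.sub_left, h.sub_right]
          linear_combination hs + hs' - h1 - h2
        have hperp : ∀ z0, B z0 z0 = 0 → B (b - a) z0 = 0 := by
          intro z0 hz0
          have e : c + σ (c - B z0 a) + B a (a + z0) = 0 := by
            rw [map_sub, h.symm, h.add_right]
            linear_combination hs
          have h3 := hk (c - B z0 a) (a + z0) (by
            rw [map_sub, h.symm]
            simp only [h.add_left, h.add_right]
            linear_combination hs + hz0) e
          rw [map_sub, h.symm, h.add_right] at h3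
          rw [h.sub_left]
          linear_combination h3 - h1
        have hd : b - a = 0 := by
          by_contra hd
          obtain ⟨u, hu⟩ : ∃ u, B (b - a) u ≠ 0 := by
            by_contra hne
            push Not at hne
            exact hd (h.nondeg _ hne)
          set u' := (σ (B (b - a) u))⁻¹ • u with hu'
          have hu1 : B (b - a) u' = 1 := by
            rw [hu', h.smul_right, map_inv₀, h.invol, inv_mul_cancel₀ hu]
          have hu2 : B u' (b - a) = 1 := by rw [← h.symm, hu1, map_one]
          obtain ⟨t, ht⟩ := h.exists_fill u'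
          have := hperp (u' + t • (b - a)) (by
            simp only [h.add_left, h.add_right, h.smul_left, h.smul_right, hdd, hu1, hu2]
            linear_combination ht)
          rw [h.add_right, hu1, h.smul_right, hdd, mul_zero, add_zero] at this
          exact one_ne_zero this
        rw [sub_eq_zero] at hd
        rw [hd] at h1
        have hcc : c' = c := by linear_combination h1 - hs
        refine ⟨w.2.1 / v.2.1, Prod.ext ?_ (Prod.ext ?_ ?_)⟩
        · rw [hc, hc', div_eq_div_iff hy' hy] at hcc
          simp only [Prod.smul_fst, smul_eq_mul]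
          field_simp
          linear_combination hcc
        · simp [div_mul_cancel₀ _ hy]
        · have : w.2.2 = w.2.1 • b := by rw [hb, smul_inv_smul₀ hy']
          rw [this, hd, ha, smul_smul, Prod.smul_snd, Prod.smul_snd, div_eq_mul_inv]

theorem rigid (F : Type) [Field F] [Fintype F] {p : ℕ} [Fact p.Prime] [CharP F p] (n q : ℕ)
    (hF : Fintype.card F = q ^ 2) (hn : 3 ≤ n) (hex : ¬ (n = 3 ∧ q = 2)) : Rigid p (Cfsg.PSU n F q) := by
  obtain ⟨k, rfl⟩ : ∃ k, n = k + 2 := ⟨n - 2, by omega⟩
  have := isSimpleGroup_PSU hF k (by omega) (by omega)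
  obtain ⟨e, φ, -, -⟩ := exists_suEquiv hF k
  refine rigid_core (hermSpace_std hF k) ⟨fun _ => 1, fun h0 => by simpa using congrFun h0 ⟨0, by omega⟩⟩
    ((QuotientGroup.mk' (Subgroup.center (Cfsg.SU (k + 2) F q))).comp φ.symm.toMonoidHom)
    ((QuotientGroup.mk'_surjective _).comp φ.symm.surjective) fun z hz => ?_
  rw [MonoidHom.mem_ker, MonoidHom.comp_apply, QuotientGroup.mk'_apply, QuotientGroup.eq_one_iff] at hz
  exact Subgroup.mem_center_iff.2 fun g => φ.symm.injective (by
    rw [map_mul, map_mul]
    exact Subgroup.mem_center_iff.1 hz _)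

end Cfsg.Agent.Lib.FixSylow.Unitary
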